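import Groth.Agent.Lib.ArSing29.Basic
import Groth.Agent.Lib.SubstBij1.Basic
import Mathlib.RingTheory.MvPowerSeries.Equiv
import Mathlib.RingTheory.Noetherian.Orzech

/-!
# Linear parts and automorphisms of `k[[x, y]]/(y^2 - x^(r+1))`
-/

set_option autoImplicit false
set_option maxHeartbeats 400000

universe u

namespace Groth.Agent.ArSing29

open ArSing

variable {k : Type u} [Field k] {r : ℕ}

/-- The component along `1`. -/
noncomputable def p1 (a : ring k r) : PowerSeries k := (exists_rep k r a).choose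

/-- The component along `y`. -/
noncomputable def p2 (a : ring k r) : PowerSeries k := (exists_rep k r a).choose_spec.choose

theorem p_spec (a : ring k r) : xMap k r (p1 a) + xMap k r (p2 a) * y k r = a :=
  (exists_rep k r a).choose_spec.choose_spec

theorem p_rep (f g : PowerSeries k) :
    p1 (xMap k r f + xMap k r g * y k r) = f ∧ p2 (xMap k r f + xMap k r g * y k r) = g :=
  rep_inj k r (p_spec _)

theorem p_add (a b : ring k r) : p1 (a + b) = p1 a + p1 b ∧ p2 (a + b) = p2 a + p2 b :=
  rep_inj k r (by rw [p_spec]; conv_lhs => rw [← p_spec a, ← p_spec b]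
                  simp only [map_add]; ring)

theorem p_mul (a b : ring k r) :
    p1 (a * b) = p1 a * p1 b + p2 a * p2 b * PowerSeries.X ^ (r + 1) ∧ p2 (a * b) = p1 a * p2 b + p2 a * p1 b :=
  rep_inj k r (by rw [p_spec]; conv_lhs => rw [← p_spec a, ← p_spec b]
                  exact rep_mul k r _ _ _ _)

theorem p_algebraMap (c : k) :
    p1 (algebraMap k (ring k r) c) = PowerSeries.C c ∧ p2 (algebraMap k (ring k r) c) = 0 :=
  rep_inj k r (by rw [p_spec, map_zero, zero_mul, add_zero]; exact ((xMap k r).commutes c).symm)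

theorem p_x : p1 (x k r) = PowerSeries.X ∧ p2 (x k r) = 0 := rep_inj k r (by rw [p_spec]; simp)

theorem p_y : p1 (y k r) = 0 ∧ p2 (y k r) = 1 := rep_inj k r (by rw [p_spec]; simp)

/-- The residue of an element. -/
noncomputable def c0 (a : ring k r) : k := PowerSeries.constantCoeff (p1 a)

/-- The coefficient of `x`. -/
noncomputable def lx (a : ring k r) : k := PowerSeries.coeff 1 (p1 a)

/-- The coefficient of `y`. -/
noncomputable def ly (a : ring k r) : k := PowerSeries.constantCoeff (p2 a)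

theorem c0_add (a b : ring k r) : c0 (a + b) = c0 a + c0 b := by simp [c0, (p_add a b).1]

theorem lx_add (a b : ring k r) : lx (a + b) = lx a + lx b := by simp [lx, (p_add a b).1]

theorem ly_add (a b : ring k r) : ly (a + b) = ly a + ly b := by simp [ly, (p_add a b).2]

theorem c0_mul (a b : ring k r) : c0 (a * b) = c0 a * c0 b := by simp [c0, (p_mul a b).1]

theorem lx_mul (hr : 1 ≤ r) (a b : ring k r) : lx (a * b) = c0 a * lx b + lx a * c0 b := by
  rw [lx, (p_mul a b).1, map_add, PowerSeries.coeff_one_mul, PowerSeries.coeff_mul_X_pow', if_neg (by omega), add_zero]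
  simp only [lx, c0]; ring

theorem ly_mul (a b : ring k r) : ly (a * b) = c0 a * ly b + ly a * c0 b := by
  simp [ly, c0, (p_mul a b).2]

theorem c0_algebraMap (c : k) : c0 (algebraMap k (ring k r) c) = c := by simp [c0, (p_algebraMap c).1]

theorem lx_algebraMap (c : k) : lx (algebraMap k (ring k r) c) = 0 := by simp [lx, (p_algebraMap c).1, PowerSeries.coeff_C]

theorem ly_algebraMap (c : k) : ly (algebraMap k (ring k r) c) = 0 := by simp [ly, (p_algebraMap c).2]

@[simp] theorem c0_x : c0 (x k r) = 0 := by simp [c0, p_x.1]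

@[simp] theorem c0_y : c0 (y k r) = 0 := by simp [c0, p_y.1]

theorem isUnit_iff_c0 (a : ring k r) : IsUnit a ↔ c0 a ≠ 0 := by
  constructor
  · intro h h0
    obtain ⟨b, hb⟩ := h.exists_right_inv
    have := congrArg c0 hb
    rw [c0_mul, h0, zero_mul, show (1 : ring k r) = algebraMap k _ 1 from (map_one _).symm, c0_algebraMap] at this
    exact zero_ne_one this
  · intro h
    by_contra hu
    obtain ⟨M, hM, haM⟩ := exists_max_ideal_of_mem_nonunits hu
    have hyM : y k r ∈ M := by
      refine hM.isPrime.mem_of_pow_mem 2 ?_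
      rw [pow_two, y_mul_y, map_pow, xMap_X]
      refine Ideal.pow_mem_of_mem _ ?_ _ (Nat.succ_pos _)
      by_contra hx
      obtain ⟨b, i, hi, hb⟩ := hM.exists_inv hx
      have h1 : IsUnit (1 - b * x k r) := by
        obtain ⟨f, g, hfg⟩ := exists_rep k r b
        have hu1 : IsUnit (1 - PowerSeries.X * f) := PowerSeries.isUnit_iff_constantCoeff.2 (by simp)
        obtain ⟨v, hv⟩ := hu1.exists_right_inv
        have hu2 : IsUnit (1 - PowerSeries.X * PowerSeries.X * g * g * v * v * PowerSeries.X ^ (r + 1)) :=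
          PowerSeries.isUnit_iff_constantCoeff.2 (by simp)
        obtain ⟨w, hw⟩ := hu2.exists_right_inv
        refine IsUnit.of_mul_eq_one (xMap k r (v * w) * (1 + xMap k r (PowerSeries.X * g * v) * y k r)) ?_
        have e1 := congrArg (xMap k r) hv
        have e2 := congrArg (xMap k r) hw
        simp only [map_mul, map_sub, map_one, map_pow, xMap_X] at e1 e2 ⊢
        have hy2 := y_mul_y k r
        rw [map_pow, xMap_X] at hy2
        rw [← hfg]
        linear_combination e2 + (xMap k r w + x k r * xMap k r g * xMap k r v * xMap k r w * y k r) * e1 -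
          (x k r * x k r * xMap k r g * xMap k r g * xMap k r v * xMap k r v * xMap k r w) * hy2
      exact hM.ne_top (Ideal.eq_top_of_isUnit_mem _ (by rw [show 1 - b * x k r = i by linear_combination -hb]; exact hi) h1)
    have hf : xMap k r (p1 a) ∈ M := by
      have := M.sub_mem haM (M.mul_mem_left (xMap k r (p2 a)) hyM)
      rwa [sub_eq_iff_eq_add.2 (p_spec a).symm] at this
    exact hM.ne_top (Ideal.eq_top_of_isUnit_mem _ hf
      ((PowerSeries.isUnit_iff_constantCoeff.2 (isUnit_iff_ne_zero.2 h)).map _))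

theorem c0_map (σ : ring k r ≃ₐ[k] ring k r) (a : ring k r) : c0 (σ a) = c0 a := by
  by_contra h
  have hne : c0 (σ (a - algebraMap k _ (c0 a))) ≠ 0 := by
    rw [map_sub, σ.commutes, sub_eq_add_neg, ← map_neg, c0_add, c0_algebraMap]
    exact fun h0 => h (eq_of_sub_eq_zero (by rw [sub_eq_add_neg]; exact h0))
  have h0 : c0 (a - algebraMap k _ (c0 a)) = 0 := by
    rw [sub_eq_add_neg, ← map_neg, c0_add, c0_algebraMap, add_neg_cancel]
  exact (isUnit_iff_c0 _).1 (by simpa using ((isUnit_iff_c0 _).2 hne).map σ.symm) h0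

theorem exists_xy_of_c0 (a : ring k r) (h : c0 a = 0) :
    ∃ u v, a = x k r * u + y k r * v ∧ (1 ≤ r → c0 u = lx a ∧ c0 v = ly a) := by
  obtain ⟨f, hf⟩ := PowerSeries.X_dvd_iff.2 h
  refine ⟨xMap k r f, xMap k r (p2 a), ?_, fun _ => ?_⟩
  · conv_lhs => rw [← p_spec a, hf, map_mul, xMap_X]
    ring
  · have e : ∀ g, c0 (xMap k r g) = PowerSeries.constantCoeff g := fun g => by
      have := (p_rep (r := r) g 0).1
      rw [map_zero, zero_mul, add_zero] at this
      simp [c0, this]
    refine ⟨?_, e _⟩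
    rw [e, lx, hf, PowerSeries.coeff_succ_X_mul, PowerSeries.coeff_zero_eq_constantCoeff_apply]

/-- The linear part of an endomorphism. -/
theorem lin_map (hr : 1 ≤ r) (σ : ring k r ≃ₐ[k] ring k r) (a : ring k r) (h : c0 a = 0) :
    lx (σ a) = lx a * lx (σ (x k r)) + ly a * lx (σ (y k r)) ∧
      ly (σ a) = lx a * ly (σ (x k r)) + ly a * ly (σ (y k r)) := by
  obtain ⟨u, v, e, huv⟩ := exists_xy_of_c0 a h
  obtain ⟨hu, hv⟩ := huv hr
  conv in (σ a) => rw [e, map_add, map_mul, map_mul]
  conv in (σ a) => rw [e, map_add, map_mul, map_mul]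
  rw [lx_add, lx_mul hr, lx_mul hr, ly_add, ly_mul, ly_mul, c0_map, c0_map, c0_map, c0_map, c0_x, c0_y, hu, hv]
  constructor <;> ring

/-- An automorphism with prescribed images of `x` and `y`. -/
theorem exists_auto (a b : ring k r) (ha : c0 a = 0) (hb : c0 b = 0) (hdet : lx a * ly b - ly a * lx b ≠ 0)
    (hrel : b ^ 2 = a ^ (r + 1)) : ∃ φ : ring k r ≃ₐ[k] ring k r, φ (x k r) = a ∧ φ (y k r) = b := by
  classical
  let P := MvPowerSeries (Fin 2) k
  let lift : ring k r → P := fun a => inX k (p1 a) + inX k (p2 a) * MvPowerSeries.X 1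
  have hmk : ∀ a, Ideal.Quotient.mk _ (lift a) = a := fun a => by
    simp only [lift, map_add, map_mul]
    exact p_spec a
  have hcc : ∀ a, MvPowerSeries.constantCoeff (lift a) = c0 a := fun a => by
    have h0 := coeff_inX k (p1 a) 0 0
    rw [show e2 0 0 = 0 by simp [e2], MvPowerSeries.coeff_zero_eq_constantCoeff_apply, if_pos rfl] at h0
    simp only [lift, map_add, map_mul, MvPowerSeries.constantCoeff_X, mul_zero, add_zero, h0, c0,
      PowerSeries.coeff_zero_eq_constantCoeff_apply]
  have hl0 : ∀ a, MvPowerSeries.coeff (Finsupp.single 0 1) (lift a) = lx a := fun a => by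
    rw [show Finsupp.single (0 : Fin 2) 1 = e2 1 0 by simp [e2]]
    simp [lift, coeff_inX, coeff_inX_mul_Y, lx]
  have hl1 : ∀ a, MvPowerSeries.coeff (Finsupp.single 1 1) (lift a) = ly a := fun a => by
    rw [show Finsupp.single (1 : Fin 2) 1 = e2 0 1 by simp [e2]]
    simp [lift, coeff_inX, coeff_inX_mul_Y, ly, PowerSeries.coeff_zero_eq_constantCoeff_apply]
  let z : Fin 2 → P := ![lift a, lift b]
  have hz : ∀ i, MvPowerSeries.constantCoeff (z i) = 0 := fun i => by fin_cases i <;> simp [z, hcc, ha, hb]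
  have hJ : IsUnit (SubstBij1.lin z).det := by
    rw [Matrix.det_fin_two, isUnit_iff_ne_zero]
    simpa [SubstBij1.lin, z, hl0, hl1] using hdet
  have hbij := SubstBij1.bijective z hz hJ
  have hs : MvPowerSeries.HasSubst z := MvPowerSeries.hasSubst_of_constantCoeff_zero hz
  let S : P →ₐ[k] ring k r := (Ideal.Quotient.mkₐ k _).comp (MvPowerSeries.substAlgHom hs)
  have hSX : ∀ i, S (MvPowerSeries.X i) = Ideal.Quotient.mk _ (z i) := fun i => by
    show Ideal.Quotient.mk _ (MvPowerSeries.substAlgHom hs (MvPowerSeries.X i)) = _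
    rw [MvPowerSeries.substAlgHom_X]
  have hker : ∀ w ∈ Ideal.span {eqn k r}, S w = 0 := by
    intro w hw
    obtain ⟨c, rfl⟩ := Ideal.mem_span_singleton.1 hw
    have he : S (eqn k r) = 0 := by
      show S (MvPowerSeries.X 1 ^ 2 - MvPowerSeries.X 0 ^ (r + 1)) = 0
      rw [map_sub, map_pow, map_pow, hSX, hSX]
      simp only [z, Matrix.cons_val_zero, Matrix.cons_val_one, hmk]
      exact sub_eq_zero.2 hrel
    rw [map_mul, he, zero_mul]
  let ψ : ring k r →ₐ[k] ring k r := Ideal.Quotient.liftₐ _ S hker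
  have hψ : ∀ w, ψ (Ideal.Quotient.mk _ w) = S w := fun w => rfl
  have hsurj : Function.Surjective ψ := by
    intro q
    obtain ⟨w, rfl⟩ := Ideal.Quotient.mk_surjective q
    obtain ⟨v, hv⟩ := hbij.2 w
    refine ⟨Ideal.Quotient.mk _ v, ?_⟩
    rw [hψ]
    show Ideal.Quotient.mk _ (MvPowerSeries.substAlgHom hs v) = _
    rw [MvPowerSeries.substAlgHom_apply, hv]
  have hinj : Function.Injective ψ := by
    have : IsNoetherianRing (ring k r) := Ideal.Quotient.isNoetherianRing _
    let K : ℕ → Ideal (ring k r) := fun n => RingHom.ker ((ψ ^ n : ring k r →ₐ[k] ring k r) : ring k r →+* ring k r)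
    have hstep : ∀ n w, (ψ ^ (n + 1)) w = ψ ((ψ ^ n) w) := fun n w => by rw [pow_succ', AlgHom.mul_apply]
    obtain ⟨n, hn⟩ := monotone_stabilizes_iff_noetherian.2 (inferInstance : IsNoetherian (ring k r) (ring k r))
      ⟨K, monotone_nat_of_le_succ fun n w hw => by
        show (ψ ^ (n + 1)) w = 0
        rw [hstep, show (ψ ^ n) w = 0 from hw, map_zero]⟩
    rw [injective_iff_map_eq_zero]
    intro w hw
    have hs' : Function.Surjective (ψ ^ n) := by
      rw [AlgHom.coe_pow]; exact hsurj.iterate n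
    obtain ⟨v, rfl⟩ := hs' w
    exact (SetLike.ext_iff.1 (hn (n + 1) n.le_succ) v).2 (by show (ψ ^ (n + 1)) v = 0; rw [hstep]; exact hw)
  refine ⟨AlgEquiv.ofBijective ψ ⟨hinj, hsurj⟩, ?_, ?_⟩
  · show ψ (x k r) = a
    rw [hψ, hSX]; simp [z, hmk]
  · show ψ (y k r) = b
    rw [hψ, hSX]; simp [z, hmk]

end Groth.Agent.ArSing29
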