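import Groth.Prelude.Def_W4c1arstab1appArSing
import Mathlib.RingTheory.PowerSeries.Inverse
import Mathlib.RingTheory.PowerSeries.Trunc
import Mathlib.RingTheory.Length
import Mathlib.RingTheory.DiscreteValuationRing.Basic
import Mathlib.RingTheory.RingHom.Flat
import Mathlib.Tactic.LinearCombination

/-!
# The algebra `k[[x, y]]/(y^2 - x^(r+1))` as a free `k[[x]]`-module on `1, y`
-/

set_option autoImplicit false

universe u

namespace Groth.Agent.ArSing29

open ArSing

variable (k : Type u) [Field k] (r : ℕ)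

/-- The exponent of `x^i y^j`. -/
noncomputable def e2 (i j : ℕ) : Fin 2 →₀ ℕ := Finsupp.single 0 i + Finsupp.single 1 j

@[simp] theorem e2_zero (i j : ℕ) : e2 i j 0 = i := by simp [e2]

@[simp] theorem e2_one (i j : ℕ) : e2 i j 1 = j := by simp [e2]

theorem e2_eta (d : Fin 2 →₀ ℕ) : e2 (d 0) (d 1) = d := by
  ext i; fin_cases i <;> simp

theorem e2_inj {i j i' j' : ℕ} : e2 i j = e2 i' j' ↔ i = i' ∧ j = j' :=
  ⟨fun h => ⟨by simpa using DFunLike.congr_fun h 0, by simpa using DFunLike.congr_fun h 1⟩, by rintro ⟨rfl, rfl⟩; rfl⟩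

/-- The substitution of `x` for `t`. -/
noncomputable def inX : PowerSeries k →ₐ[k] MvPowerSeries (Fin 2) k :=
  PowerSeries.substAlgHom (PowerSeries.HasSubst.of_constantCoeff_zero (MvPowerSeries.constantCoeff_X (0 : Fin 2)))

theorem xMap_apply (f : PowerSeries k) : xMap k r f = Ideal.Quotient.mk _ (inX k f) := rfl

@[simp] theorem xMap_X : xMap k r PowerSeries.X = x k r := by
  rw [xMap_apply, inX, PowerSeries.substAlgHom_X]

theorem coeff_inX (f : PowerSeries k) (i j : ℕ) :
    MvPowerSeries.coeff (e2 i j) (inX k f) = if j = 0 then PowerSeries.coeff i f else 0 := by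
  classical
  rw [inX, PowerSeries.coe_substAlgHom, PowerSeries.coeff_subst (PowerSeries.HasSubst.of_constantCoeff_zero (MvPowerSeries.constantCoeff_X (0 : Fin 2)))]
  rw [finsum_eq_single _ i]
  · rw [MvPowerSeries.coeff_X_pow, show (Finsupp.single (0 : Fin 2) i) = e2 i 0 by simp [e2]]
    simp [e2_inj]
  · intro d hd
    rw [MvPowerSeries.coeff_X_pow, show (Finsupp.single (0 : Fin 2) d) = e2 d 0 by simp [e2]]
    simp [e2_inj, Ne.symm hd]

theorem coeff_inX_mul_Y (f : PowerSeries k) (i j : ℕ) :
    MvPowerSeries.coeff (e2 i j) (inX k f * MvPowerSeries.X 1) = if j = 1 then PowerSeries.coeff i f else 0 := by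
  classical
  rw [MvPowerSeries.X_def, MvPowerSeries.coeff_mul_monomial]
  rcases j with _ | j
  · rw [if_neg fun h => by simpa using h 1]; simp
  · rw [if_pos (Finsupp.le_def.2 fun l => by fin_cases l <;> simp), show e2 i (j + 1) - Finsupp.single 1 1 = e2 i j by
      ext l; fin_cases l <;> simp, coeff_inX, mul_one]
    simp

theorem coeff_eqn_mul (Q : MvPowerSeries (Fin 2) k) (i j : ℕ) :
    MvPowerSeries.coeff (e2 i j) (eqn k r * Q) =
      (if 2 ≤ j then MvPowerSeries.coeff (e2 i (j - 2)) Q else 0) -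
      (if r + 1 ≤ i then MvPowerSeries.coeff (e2 (i - (r + 1)) j) Q else 0) := by
  classical
  rw [eqn, sub_mul, map_sub, MvPowerSeries.X_pow_eq, MvPowerSeries.X_pow_eq, MvPowerSeries.coeff_monomial_mul,
    MvPowerSeries.coeff_monomial_mul]
  refine congrArg₂ (· - ·) (ite_congr ?_ (fun _ => ?_) fun _ => rfl) (ite_congr ?_ (fun _ => ?_) fun _ => rfl)
  · exact propext ⟨fun h => by simpa using h 1, fun h l => by fin_cases l <;> simp [h]⟩
  · rw [one_mul]; exact congrArg (fun d => MvPowerSeries.coeff d Q) (Finsupp.ext fun l => by fin_cases l <;> simp)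
  · exact propext ⟨fun h => by simpa using h 0, fun h l => by fin_cases l <;> simp [h]⟩
  · rw [one_mul]; exact congrArg (fun d => MvPowerSeries.coeff d Q) (Finsupp.ext fun l => by fin_cases l <;> simp)

/-- The quotient of the division by `y^2 - x^(r+1)`. -/
noncomputable def divQ (F : MvPowerSeries (Fin 2) k) : ℕ → ℕ → k
  | i, j => MvPowerSeries.coeff (e2 i (j + 2)) F + if _h : r + 1 ≤ i then divQ F (i - (r + 1)) (j + 2) else 0
termination_by i => i
decreasing_by omega

theorem exists_rep (a : ring k r) : ∃ f g : PowerSeries k, xMap k r f + xMap k r g * y k r = a := by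
  classical
  obtain ⟨F, rfl⟩ := Ideal.Quotient.mk_surjective a
  let Q : MvPowerSeries (Fin 2) k := fun d => divQ k r F (d 0) (d 1)
  have hQ : ∀ i j, MvPowerSeries.coeff (e2 i j) Q = divQ k r F i j := fun i j => by
    rw [MvPowerSeries.coeff_apply]; simp [Q]
  let D := F - eqn k r * Q
  refine ⟨PowerSeries.mk fun i => MvPowerSeries.coeff (e2 i 0) D, PowerSeries.mk fun i => MvPowerSeries.coeff (e2 i 1) D, ?_⟩
  rw [xMap_apply, xMap_apply, ← map_mul, ← map_add, Ideal.Quotient.eq, Ideal.mem_span_singleton]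
  refine ⟨-Q, MvPowerSeries.ext fun d => ?_⟩
  rw [← e2_eta d]
  generalize d 0 = i
  generalize d 1 = j
  rw [map_sub, map_add, coeff_inX, coeff_inX_mul_Y, mul_neg, map_neg]
  rcases j with _ | _ | j
  · simp [D]
  · simp [D]
  · rw [if_neg (by omega), if_neg (by omega), coeff_eqn_mul, if_pos (by omega), hQ, hQ, divQ, show j + 1 + 1 - 2 + 2 = j + 1 + 1 by omega]
    split_ifs <;> simp_all <;> ring

theorem rep_eq_zero {f g : PowerSeries k} (h : xMap k r f + xMap k r g * y k r = 0) : f = 0 ∧ g = 0 := by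
  rw [xMap_apply, xMap_apply, ← map_mul, ← map_add, Ideal.Quotient.eq_zero_iff_mem, Ideal.mem_span_singleton] at h
  obtain ⟨Q, hQ⟩ := h
  have hc : ∀ i j, MvPowerSeries.coeff (e2 i j) (inX k f + inX k g * MvPowerSeries.X 1) = MvPowerSeries.coeff (e2 i j) (eqn k r * Q) :=
    fun i j => by rw [hQ]
  simp only [map_add, coeff_inX, coeff_inX_mul_Y, coeff_eqn_mul] at hc
  have hQ0 : ∀ i j, MvPowerSeries.coeff (e2 i j) Q = 0 := by
    intro i
    induction i using Nat.strong_induction_on with
    | _ i ih =>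
      intro j
      have h2 := hc i (j + 2)
      rw [if_neg (by omega), if_neg (by omega), if_pos (by omega), Nat.add_sub_cancel, add_zero] at h2
      split_ifs at h2 with hi
      · rw [ih (i - (r + 1)) (by omega), sub_zero] at h2; exact h2.symm
      · rw [sub_zero] at h2; exact h2.symm
  constructor
  · ext i; simpa [hQ0] using hc i 0
  · ext i; simpa [hQ0] using hc i 1

theorem rep_inj {f g f' g' : PowerSeries k}
    (h : xMap k r f + xMap k r g * y k r = xMap k r f' + xMap k r g' * y k r) : f = f' ∧ g = g' := by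
  have := rep_eq_zero k r (f := f - f') (g := g - g') (by simp only [map_sub]; linear_combination h)
  exact ⟨sub_eq_zero.1 this.1, sub_eq_zero.1 this.2⟩

theorem y_mul_y : y k r * y k r = xMap k r (PowerSeries.X ^ (r + 1)) := by
  rw [map_pow, xMap_X, ← map_mul, ← map_pow, Ideal.Quotient.eq, ← pow_two]
  exact Ideal.mem_span_singleton_self _

/-- Multiplication of representatives. -/
theorem rep_mul (f g f' g' : PowerSeries k) :
    (xMap k r f + xMap k r g * y k r) * (xMap k r f' + xMap k r g' * y k r) =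
      xMap k r (f * f' + g * g' * PowerSeries.X ^ (r + 1)) + xMap k r (f * g' + g * f') * y k r := by
  simp only [map_add, map_mul]
  linear_combination (xMap k r g * xMap k r g') * y_mul_y k r

/-- Two algebra maps out of `k[[t]]` agree if they agree on `t` and the image of `t` lies in `(x)`. -/
theorem algHom_ext (ψ₁ ψ₂ : PowerSeries k →ₐ[k] ring k r) (h : ψ₁ PowerSeries.X = ψ₂ PowerSeries.X)
    (hm : x k r ∣ ψ₁ PowerSeries.X) : ψ₁ = ψ₂ := by
  have hpoly : ∀ q : Polynomial k, ψ₁ (q : PowerSeries k) = ψ₂ (q : PowerSeries k) := fun q =>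
    AlgHom.congr_fun (Polynomial.algHom_ext (R := k) (f := ψ₁.comp (Polynomial.coeToPowerSeries.algHom k))
      (g := ψ₂.comp (Polynomial.coeToPowerSeries.algHom k)) (by simpa [Polynomial.coeToPowerSeries.algHom_apply] using h)) q
  refine AlgHom.ext fun f => sub_eq_zero.1 ?_
  obtain ⟨F, G, hFG⟩ := exists_rep k r (ψ₁ f - ψ₂ f)
  have hN : ∀ N, PowerSeries.X ^ N ∣ F ∧ PowerSeries.X ^ N ∣ G := by
    intro N
    obtain ⟨g, hg⟩ : PowerSeries.X ^ N ∣ f - ((PowerSeries.trunc N f : Polynomial k) : PowerSeries k) := by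
      rw [PowerSeries.X_pow_dvd_iff]; intro m hm'; simp [PowerSeries.coeff_trunc, hm']
    obtain ⟨w, hw⟩ := hm
    obtain ⟨a, b, hab⟩ := exists_rep k r (w ^ N * (ψ₁ g - ψ₂ g))
    have key : ψ₁ f - ψ₂ f = xMap k r (PowerSeries.X ^ N * a) + xMap k r (PowerSeries.X ^ N * b) * y k r := by
      rw [eq_add_of_sub_eq hg, map_add, map_add, hpoly, map_mul, map_mul, map_pow, map_pow, ← h, hw, map_mul, map_mul,
        map_pow, xMap_X]
      linear_combination (- (x k r ^ N)) * hab
    obtain ⟨rfl, rfl⟩ := rep_inj k r (hFG.trans key)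
    exact ⟨dvd_mul_right _ _, dvd_mul_right _ _⟩
  have h0 : ∀ F : PowerSeries k, (∀ N, PowerSeries.X ^ N ∣ F) → F = 0 := fun F hF => by
    ext i; simpa using PowerSeries.X_pow_dvd_iff.1 (hF (i + 1)) i (by omega)
  rw [← hFG, h0 F fun N => (hN N).1, h0 G fun N => (hN N).2]
  simp

theorem map_rep (σ : ring k r →ₐ[k] ring k r) (c : k) (hx : σ (x k r) = algebraMap k (ring k r) c * x k r) (f g : PowerSeries k) :
    σ (xMap k r f + xMap k r g * y k r) =
      xMap k r (PowerSeries.rescale c f) + xMap k r (PowerSeries.rescale c g) * σ (y k r) := by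
  let ρ : PowerSeries k →ₐ[k] PowerSeries k :=
    { PowerSeries.rescale c with
      commutes' := fun a => by
        show PowerSeries.rescale c (algebraMap k (PowerSeries k) a) = _
        ext n; simp [PowerSeries.algebraMap_apply, PowerSeries.coeff_rescale, PowerSeries.coeff_C]
        split_ifs with hn <;> simp [hn] }
  have h := algHom_ext k r (σ.comp (xMap k r)) ((xMap k r).comp ρ) (by
    show σ (xMap k r PowerSeries.X) = xMap k r (PowerSeries.rescale c PowerSeries.X)
    rw [PowerSeries.rescale_X, xMap_X, hx, map_mul, xMap_X]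
    congr 1
    exact (AlgHom.commutes (xMap k r) c).symm) (by
    show x k r ∣ σ (xMap k r PowerSeries.X)
    rw [xMap_X, hx]; exact dvd_mul_left _ _)
  rw [map_add, map_mul]
  congr 1
  · exact AlgHom.congr_fun h f
  · congr 1; exact AlgHom.congr_fun h g

theorem free_xMap : @Module.Free (PowerSeries k) (ring k r) _ _ (xMap k r).toRingHom.toAlgebra.toModule := by
  letI := (xMap k r).toRingHom.toAlgebra
  have hb : Function.Bijective (Fintype.linearCombination (PowerSeries k) ![(1 : ring k r), y k r]) := by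
    constructor
    · intro c c' h
      simp only [Fintype.linearCombination_apply, Fin.sum_univ_two, Algebra.smul_def, Matrix.cons_val_zero,
        Matrix.cons_val_one, mul_one] at h
      obtain ⟨h0, h1⟩ := rep_inj k r h
      funext i; fin_cases i <;> assumption
    · intro a
      obtain ⟨f, g, h⟩ := exists_rep k r a
      refine ⟨![f, g], ?_⟩
      simp only [Fintype.linearCombination_apply, Fin.sum_univ_two, Algebra.smul_def, Matrix.cons_val_zero,
        Matrix.cons_val_one, mul_one]
      exact h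
  exact Module.Free.of_equiv (LinearEquiv.ofBijective _ hb)

theorem flat_xMap : (xMap k r).toRingHom.Flat := by
  letI := (xMap k r).toRingHom.toAlgebra
  haveI := free_xMap k r
  exact Module.Flat.of_free

theorem span_xy_isMaximal : (Ideal.span {x k r, y k r} : Ideal (ring k r)).IsMaximal := by
  refine Ideal.isMaximal_iff.2 ⟨fun h => ?_, fun J a hJ ha haJ => ?_⟩
  · obtain ⟨c, d, hcd⟩ := Ideal.mem_span_pair.1 h
    obtain ⟨f, g, rfl⟩ := exists_rep k r c
    obtain ⟨f', g', rfl⟩ := exists_rep k r d
    have e : xMap k r (f * PowerSeries.X + g' * PowerSeries.X ^ (r + 1)) + xMap k r (g * PowerSeries.X + f') * y k r =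
        xMap k r 1 + xMap k r 0 * y k r := by
      simp only [map_add, map_mul, map_one, map_zero, xMap_X]
      linear_combination hcd + (- xMap k r g') * y_mul_y k r
    simpa using congrArg PowerSeries.constantCoeff (rep_inj k r e).1
  · obtain ⟨f, g, rfl⟩ := exists_rep k r a
    have hfu : IsUnit f := by
      by_contra hf
      obtain ⟨f', rfl⟩ : PowerSeries.X ∣ f := PowerSeries.X_dvd_iff.2 (by
        rw [PowerSeries.isUnit_iff_constantCoeff, isUnit_iff_ne_zero, not_not] at hf; exact hf)
      exact ha (Ideal.mem_span_pair.2 ⟨xMap k r f', xMap k r g, by rw [map_mul, xMap_X]; ring⟩)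
    have : xMap k r f ∈ J := by
      have := J.sub_mem haJ (J.mul_mem_left (xMap k r g) (hJ (Ideal.subset_span (Set.mem_insert_of_mem _ rfl))))
      simpa using this
    obtain ⟨u, hu⟩ := hfu.map (xMap k r)
    simpa [← hu] using J.mul_mem_left (↑u⁻¹ : ring k r) this

theorem length_quot_xy : Module.length (ring k r) (ring k r ⧸ (Ideal.span {x k r, y k r} : Ideal (ring k r))) = 1 := by
  rw [Module.length_eq_one_iff, isSimpleModule_iff_isCoatom]
  exact Ideal.isMaximal_def.1 (span_xy_isMaximal k r)

end Groth.Agent.ArSing29
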