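import Groth.Prelude.Def_W4c1arstab1appArSing
import Groth.Agent.Lib.SubstBij1.Basic
import Mathlib.RingTheory.MvPowerSeries.Equiv
import Mathlib.RingTheory.PowerSeries.Inverse
import Mathlib.RingTheory.PowerSeries.WeierstrassPreparation
import Mathlib.RingTheory.AdicCompletion.Completeness
import Mathlib.RingTheory.Henselian
import Mathlib.LinearAlgebra.Dimension.Finrank
import Mathlib.Algebra.MvPolynomial.PDeriv
import Mathlib.RingTheory.Ideal.Quotient.Operations

/-!
# Plane curve germs of multiplicity at most two are `A_n` singularities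
-/

set_option maxHeartbeats 400000
set_option autoImplicit false

universe u

open MvPowerSeries

noncomputable section

namespace Groth.Agent.ArSing29.DP

variable {k : Type u} [Field k]

local notation "P" => MvPowerSeries (Fin 2) k

/-- A change of variables with invertible linear part. -/
def autOf (y : Fin 2 → P) (hy : ∀ i, constantCoeff (y i) = 0) (hJ : IsUnit (SubstBij1.lin y).det) :
    P ≃ₐ[k] P :=
  AlgEquiv.ofBijective (substAlgHom (hasSubst_of_constantCoeff_zero hy))
    (by rw [coe_substAlgHom]; exact SubstBij1.bijective y hy hJ)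

theorem autOf_apply (y : Fin 2 → P) (hy : ∀ i, constantCoeff (y i) = 0) (hJ : IsUnit (SubstBij1.lin y).det)
    (f : P) : autOf y hy hJ f = subst y f := by
  rw [autOf, AlgEquiv.coe_ofBijective, substAlgHom_apply]

theorem autOf_X (y : Fin 2 → P) (hy : ∀ i, constantCoeff (y i) = 0) (hJ : IsUnit (SubstBij1.lin y).det)
    (i : Fin 2) : autOf y hy hJ (X i) = y i := by
  rw [autOf_apply, subst_X (hasSubst_of_constantCoeff_zero hy)]

/-- An isomorphism of quotients by principal ideals. -/
theorem quot_equiv (σ : P ≃ₐ[k] P) {F G : P} (h : Ideal.span {F} = Ideal.span {σ G}) :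
    Nonempty ((P ⧸ Ideal.span ({F} : Set P)) ≃ₐ[k] (P ⧸ Ideal.span ({G} : Set P))) := by
  refine ⟨(Ideal.quotientEquivAlg (Ideal.span ({G} : Set P)) (Ideal.span ({F} : Set P)) σ ?_).symm⟩
  rw [Ideal.map_span, Set.image_singleton]
  exact h

/-- `x ↦ X 1`, `y ↦ X 0`. -/
def eqv : Fin 2 ≃ Option Unit :=
  (_root_.finSuccEquiv 1).trans (Equiv.optionCongr finOneEquiv)

/-- `k[[y, x]] = k[[x]][[y]]` with `y = X 0`. -/
def toPS : P ≃ₐ[k] PowerSeries (PowerSeries k) :=
  (renameEquiv k eqv).trans (optionEquivLeft Unit k)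

theorem constantCoeff_coeff_toPS (F : P) (j : ℕ) :
    PowerSeries.constantCoeff (PowerSeries.coeff j (toPS F)) = coeff (Finsupp.single 0 j) F := by
  have h := coeff_coeff_optionEquivLeft (σ := Unit) (R := k) (rename (eqv : Fin 2 ≃ Option Unit) F) j 0
  have h2 : (Finsupp.optionElim j (0 : Unit →₀ ℕ) : Option Unit →₀ ℕ) =
      Finsupp.embDomain (eqv : Fin 2 ≃ Option Unit).toEmbedding (Finsupp.single 0 j) := by
    rw [Finsupp.embDomain_single]
    ext a
    cases a <;> simp [eqv, Finsupp.single_apply, finSuccEquiv_zero]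
  rw [h2] at h
  have h3 : coeff (Finsupp.embDomain (eqv : Fin 2 ≃ Option Unit).toEmbedding (Finsupp.single 0 j))
      (rename (eqv : Fin 2 ≃ Option Unit).toEmbedding F) = coeff (Finsupp.single 0 j) F :=
    coeff_embDomain_rename _ _ _
  replace h := h.trans h3
  rw [← PowerSeries.coeff_zero_eq_constantCoeff_apply, PowerSeries.coeff, Finsupp.single_zero]
  exact h

theorem toPS_X0 : toPS (X 0 : P) = PowerSeries.X := by
  simp [toPS, renameEquiv, eqv, optionEquivLeft_X_none]

theorem toPS_X1 : toPS (X 1 : P) = PowerSeries.C PowerSeries.X := by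
  rw [show (1 : Fin 2) = Fin.succ 0 from rfl]
  have h : (eqv : Fin 2 ≃ Option Unit) (Fin.succ 0) = some () := rfl
  show optionEquivLeft Unit k (rename _ (X (Fin.succ 0))) = _
  rw [rename_X, h, optionEquivLeft_X_some]
  rfl

/-- `k[[x]] → k[[y, x]]`. -/
def inc : PowerSeries k →+* P := (toPS (k := k)).symm.toRingEquiv.toRingHom.comp PowerSeries.C

theorem toPS_inc (a : PowerSeries k) : toPS (inc a) = PowerSeries.C a :=
  (toPS (k := k)).apply_symm_apply _

theorem inc_X : inc (PowerSeries.X : PowerSeries k) = X 1 :=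
  (toPS (k := k)).injective (by rw [toPS_inc, toPS_X1])

theorem lc_inc (a : PowerSeries k) : coeff (Finsupp.single 0 1) (inc a) = 0 := by
  rw [← constantCoeff_coeff_toPS, toPS_inc]
  simp [PowerSeries.coeff_C]

theorem constantCoeff_inc (a : PowerSeries k) : constantCoeff (inc a) = PowerSeries.constantCoeff a := by
  have h := constantCoeff_coeff_toPS (inc a) 0
  rw [toPS_inc, Finsupp.single_zero, coeff_zero_eq_constantCoeff_apply, PowerSeries.coeff_zero_C] at h
  exact h.symm

theorem isUnit_two (h2 : (2 : k) ≠ 0) : IsUnit (2 : PowerSeries k) := by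
  rw [PowerSeries.isUnit_iff_constantCoeff, map_ofNat]
  exact h2.isUnit

theorem exists_sqrt [IsAlgClosed k] (h2 : (2 : k) ≠ 0) (u : PowerSeries k)
    (hu : PowerSeries.constantCoeff u ≠ 0) : ∃ w : PowerSeries k, IsUnit w ∧ w ^ 2 = u := by
  obtain ⟨r, hr⟩ := IsAlgClosed.exists_pow_nat_eq (PowerSeries.constantCoeff u) two_pos
  have hr0 : r ≠ 0 := fun h => hu (by rw [← hr, h, zero_pow two_ne_zero])
  haveI : HenselianRing (PowerSeries k) (Ideal.span {PowerSeries.X}) := IsAdicComplete.henselianRing _ _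
  obtain ⟨w, hw, hw2⟩ := HenselianRing.is_henselian (I := Ideal.span {(PowerSeries.X : PowerSeries k)})
    (Polynomial.X ^ 2 - Polynomial.C u) (Polynomial.monic_X_pow_sub_C u two_ne_zero) (PowerSeries.C r)
    (by
      rw [Ideal.mem_span_singleton, PowerSeries.X_dvd_iff]
      simp [hr])
    (by
      refine IsUnit.map _ ?_
      rw [PowerSeries.isUnit_iff_constantCoeff]
      simp only [Polynomial.derivative_sub, Polynomial.derivative_C, sub_zero,
        Polynomial.derivative_X_pow, Polynomial.eval_mul, Polynomial.eval_C, Polynomial.eval_pow,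
        Polynomial.eval_X, map_mul, map_pow, PowerSeries.constantCoeff_C]
      simp [hr0, map_ofNat, h2])
  refine ⟨w, ?_, sub_eq_zero.1 (by simpa using hw)⟩
  rw [PowerSeries.isUnit_iff_constantCoeff, isUnit_iff_ne_zero]
  rw [Ideal.mem_span_singleton, PowerSeries.X_dvd_iff, map_sub, PowerSeries.constantCoeff_C,
    sub_eq_zero] at hw2
  rwa [hw2]

theorem det_ne_zero {y : Fin 2 → P} (h : coeff (Finsupp.single 0 1) (y 0) * coeff (Finsupp.single 1 1) (y 1) -
    coeff (Finsupp.single 1 1) (y 0) * coeff (Finsupp.single 0 1) (y 1) ≠ 0) :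
    IsUnit (SubstBij1.lin y).det := by
  rw [Matrix.det_fin_two, isUnit_iff_ne_zero]
  exact h

theorem lc_X (i j : Fin 2) : coeff (Finsupp.single j 1) (X i : P) = if i = j then 1 else 0 := by
  classical
  rw [coeff_X]
  by_cases h : i = j
  · subst h; simp
  · rw [if_neg h, if_neg fun e => h (Finsupp.single_left_injective one_ne_zero e).symm]

/-- A series with `y² `-coefficient nonzero and no lower term in `y` alone is an `A_n`. -/
theorem exists_equiv_of_coeff_sq [IsAlgClosed k] (h2 : (2 : k) ≠ 0) (F : P) (h0 : constantCoeff F = 0)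
    (h1 : coeff (Finsupp.single 0 1) F = 0) (hs : coeff (Finsupp.single 0 2) F ≠ 0) :
    (∃ n : ℕ, Nonempty ((P ⧸ Ideal.span ({F} : Set P)) ≃ₐ[k] ArSing.ring k n)) ∨
      Nonempty ((P ⧸ Ideal.span ({F} : Set P)) ≃ₐ[k] (P ⧸ Ideal.span ({X 1 ^ 2} : Set P))) := by
  classical
  haveI : IsAdicComplete (IsLocalRing.maximalIdeal (PowerSeries k)) (PowerSeries k) := by
    rw [PowerSeries.maximalIdeal_eq_span_X]; infer_instance
  set G := toPS F with hGdef
  have hres : ∀ j, PowerSeries.coeff j (G.map (IsLocalRing.residue (PowerSeries k))) = 0 ↔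
      coeff (Finsupp.single 0 j) F = 0 := by
    intro j
    rw [PowerSeries.coeff_map, IsLocalRing.residue_eq_zero_iff, PowerSeries.maximalIdeal_eq_span_X,
      Ideal.mem_span_singleton, PowerSeries.X_dvd_iff, hGdef, constantCoeff_coeff_toPS]
  have hord : (G.map (IsLocalRing.residue (PowerSeries k))).order = (2 : ℕ) := by
    refine PowerSeries.order_eq_nat.2 ⟨fun h => hs ((hres 2).1 h), fun i hi => (hres i).2 ?_⟩
    interval_cases i
    · rw [Finsupp.single_zero, coeff_zero_eq_constantCoeff_apply, h0]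
    · exact h1
  have hne : G.map (IsLocalRing.residue (PowerSeries k)) ≠ 0 := fun h => by
    rw [h, PowerSeries.order_zero] at hord
    exact ENat.top_ne_coe 2 hord
  obtain ⟨f, h, H⟩ := PowerSeries.exists_isWeierstrassFactorization hne
  have hdeg : f.natDegree = 2 := by
    rw [H.natDegree_eq_toNat_order_map, hord]; rfl
  have hf : f = Polynomial.X ^ 2 + Polynomial.C (f.coeff 1) * Polynomial.X + Polynomial.C (f.coeff 0) := by
    have hm := H.isDistinguishedAt.monic.leadingCoeff
    rw [Polynomial.leadingCoeff, hdeg] at hm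
    ext n : 1
    rcases n with _ | _ | _ | n
    · simp
    · simp [Polynomial.coeff_C]
    · simp [hm, Polynomial.coeff_C]
    · rw [Polynomial.coeff_eq_zero_of_natDegree_lt (by omega)]
      simp [Polynomial.coeff_C, Polynomial.coeff_X]
  have hmem : ∀ i, i < 2 → PowerSeries.constantCoeff (f.coeff i) = 0 := fun i hi => by
    have := H.isDistinguishedAt.mem (n := i) (by omega)
    rwa [PowerSeries.maximalIdeal_eq_span_X, Ideal.mem_span_singleton, PowerSeries.X_dvd_iff] at this
  obtain ⟨c, hc⟩ := isUnit_iff_exists_inv.1 (isUnit_two h2)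
  set a := c * f.coeff 1 with ha
  set d := a ^ 2 - f.coeff 0 with hd
  have hfa : f.coeff 1 = 2 * a := by rw [ha, ← mul_assoc, hc, one_mul]
  set g : P := X 0 + inc a with hgdef
  have hg0 : constantCoeff g = 0 := by
    rw [hgdef, map_add, constantCoeff_X, constantCoeff_inc, ha, map_mul, hmem 1 (by omega), mul_zero,
      add_zero]
  have hg1 : coeff (Finsupp.single 0 1) g = 1 := by
    rw [hgdef, map_add, lc_X, if_pos rfl, lc_inc, add_zero]
  set v : P := (toPS (k := k)).symm h
  have hv : IsUnit v := H.isUnit.map _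
  have hF : F = v * (g ^ 2 - inc d) := by
    refine (toPS (k := k)).injective ?_
    rw [map_mul, map_sub, map_pow, hgdef, map_add, toPS_X0, toPS_inc, toPS_inc,
      AlgEquiv.apply_symm_apply, ← hGdef, H.eq_mul]
    conv_lhs => rw [hf, hfa]
    simp only [Polynomial.coe_add, Polynomial.coe_pow, Polynomial.coe_mul, Polynomial.coe_X,
      Polynomial.coe_C]
    simp only [hd, map_sub, map_pow, map_mul, map_ofNat]
    ring
  by_cases hd0 : d = 0
  · right
    have hdet : IsUnit (SubstBij1.lin (![X 1, g] : Fin 2 → P)).det := det_ne_zero (by simp [lc_X, hg1])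
    refine quot_equiv (autOf ![X 1, g] (by simp [Fin.forall_fin_two, hg0]) hdet) ?_
    rw [map_pow, autOf_X, hF, hd0, map_zero, sub_zero, Ideal.span_singleton_mul_left_unit hv]
    rfl
  · left
    obtain ⟨m, u, hu, hdm⟩ : ∃ (m : ℕ) (u : PowerSeries k), PowerSeries.constantCoeff u ≠ 0 ∧
        d = PowerSeries.X ^ m * u :=
      ⟨_, _, fun h' => hd0 (PowerSeries.constantCoeff_divXPowOrder_eq_zero_iff.1 h'),
        (PowerSeries.X_pow_order_mul_divXPowOrder).symm⟩
    obtain ⟨n, rfl⟩ : ∃ n, m = n + 1 := by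
      refine Nat.exists_eq_succ_of_ne_zero fun hm => hu ?_
      have hd00 : PowerSeries.constantCoeff d = 0 := by
        simp [hd, ha, hmem 0 (by omega), hmem 1 (by omega)]
      rw [hdm, hm, pow_zero, one_mul] at hd00
      exact hd00
    obtain ⟨w, hw, hwu⟩ := exists_sqrt h2 u hu
    obtain ⟨w', hww'⟩ := isUnit_iff_exists_inv.1 hw
    have hw'0 : PowerSeries.constantCoeff w' ≠ 0 := fun h' => by
      have := congrArg PowerSeries.constantCoeff hww'
      rw [map_mul, h', mul_zero, map_one] at this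
      exact zero_ne_one this
    have hdet : IsUnit (SubstBij1.lin (![X 1, g * inc w'] : Fin 2 → P)).det := det_ne_zero (by
      simp [lc_X, SubstBij1.coeff_single_mul, hg0, hg1, constantCoeff_inc, hw'0])
    refine ⟨n, quot_equiv (autOf ![X 1, g * inc w'] (by simp [Fin.forall_fin_two, hg0]) hdet) ?_⟩
    rw [ArSing.eqn, map_sub, map_pow, map_pow, autOf_X, autOf_X]
    show Ideal.span {F} = Ideal.span {(g * inc w') ^ 2 - X 1 ^ (n + 1)}
    have hF' : F = (v * inc w ^ 2) * ((g * inc w') ^ 2 - X 1 ^ (n + 1)) := by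
      have e : inc w * inc w' = (1 : P) := by rw [← map_mul, hww', map_one]
      have e2 : inc d = X 1 ^ (n + 1) * inc w ^ 2 := by rw [hdm, ← hwu, map_mul, map_pow, map_pow, inc_X]
      rw [hF, e2]
      linear_combination (-(v * g ^ 2) * (inc w * inc w' + 1)) * e
    rw [hF', Ideal.span_singleton_mul_left_unit (hv.mul ((hw.map inc).pow 2))]

/-- The square-zero exponents. -/
theorem degree_lt_three {e : Fin 2 →₀ ℕ} (he : e.degree < 3) :
    e = 0 ∨ (∃ i, e = Finsupp.single i 1) ∨ ∃ i j, e = Finsupp.single i 1 + Finsupp.single j 1 := by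
  by_cases h0 : e = 0
  · exact Or.inl h0
  obtain ⟨i, hi⟩ : ∃ i, e i ≠ 0 := by
    by_contra hc
    push Not at hc
    exact h0 (Finsupp.ext hc)
  have hle : Finsupp.single i 1 ≤ e := Finsupp.single_le_iff.2 (Nat.one_le_iff_ne_zero.2 hi)
  have hsum : Finsupp.single i 1 + (e - Finsupp.single i 1) = e := add_tsub_cancel_of_le hle
  have hdeg := congrArg Finsupp.degree hsum
  rw [map_add, Finsupp.degree_single] at hdeg
  rcases (show (e - Finsupp.single i 1).degree = 0 ∨ (e - Finsupp.single i 1).degree = 1 by omega) with h | h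
  · rw [(Finsupp.degree_eq_zero_iff _).1 h, add_zero] at hsum
    exact Or.inr (Or.inl ⟨i, hsum.symm⟩)
  · obtain ⟨j, hj⟩ := (Finsupp.range_single_one (σ := Fin 2)).ge h
    exact Or.inr (Or.inr ⟨i, j, hsum.symm.trans (congrArg _ hj.symm)⟩)

theorem O_three_iff {F : P} : Morse19.O 3 F ↔ constantCoeff F = 0 ∧
    (∀ i, coeff (Finsupp.single i 1) F = 0) ∧ ∀ i j, coeff (Finsupp.single i 1 + Finsupp.single j 1) F = 0 := by
  rw [Morse19.O_iff]
  refine ⟨fun h => ⟨?_, fun i => h _ (by simp), fun i j => h _ (by simp)⟩, fun ⟨a, b, c⟩ e he => ?_⟩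
  · rw [← coeff_zero_eq_constantCoeff_apply]; exact h 0 (by simp)
  · rcases degree_lt_three he with rfl | ⟨i, rfl⟩ | ⟨i, j, rfl⟩
    · rw [coeff_zero_eq_constantCoeff_apply]; exact a
    · exact b i
    · exact c i j

theorem constantCoeff_linear (α β : k) : constantCoeff (C α * X 0 + C β * X 1 : P) = 0 := by simp

/-- Multiplicity at most two gives an `A_n` singularity. -/
theorem exists_equiv [IsAlgClosed k] (h2 : (2 : k) ≠ 0) (F : P) (h0 : constantCoeff F = 0)
    (h3 : ¬ Morse19.O 3 F) :
    (∃ n : ℕ, Nonempty ((P ⧸ Ideal.span ({F} : Set P)) ≃ₐ[k] ArSing.ring k n)) ∨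
      Nonempty ((P ⧸ Ideal.span ({F} : Set P)) ≃ₐ[k] (P ⧸ Ideal.span ({X 1 ^ 2} : Set P))) := by
  classical
  by_cases hlin : ∀ i, coeff (Finsupp.single i 1) F = 0
  · set a := coeff (Finsupp.single (0 : Fin 2) 1 + Finsupp.single 0 1) F with ha
    set b := coeff (Finsupp.single (0 : Fin 2) 1 + Finsupp.single 1 1) F with hb
    set c := coeff (Finsupp.single (1 : Fin 2) 1 + Finsupp.single 1 1) F with hc
    have key : ∀ α₀ α₁ γ₀ γ₁ : k, α₀ * γ₁ - γ₀ * α₁ ≠ 0 → a * α₀ ^ 2 + b * (α₀ * α₁) + c * α₁ ^ 2 ≠ 0 →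
        (∃ n : ℕ, Nonempty ((P ⧸ Ideal.span ({F} : Set P)) ≃ₐ[k] ArSing.ring k n)) ∨
          Nonempty ((P ⧸ Ideal.span ({F} : Set P)) ≃ₐ[k] (P ⧸ Ideal.span ({X 1 ^ 2} : Set P))) := by
      intro α₀ α₁ γ₀ γ₁ hdet hQ
      let y : Fin 2 → P := ![C α₀ * X 0 + C γ₀ * X 1, C α₁ * X 0 + C γ₁ * X 1]
      have hy : ∀ i, constantCoeff (y i) = 0 := by
        simp [y, Fin.forall_fin_two]
      have hJ : IsUnit (SubstBij1.lin y).det := det_ne_zero (by
        simpa [y, lc_X, coeff_C_mul] using hdet)
      set σ := autOf y hy hJ with hσ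
      set G := F - (C a * X 0 ^ 2 + C b * (X 0 * X 1) + C c * X 1 ^ 2) with hG
      have hG3 : Morse19.O 3 G := by
        refine O_three_iff.2 ⟨by simp [hG, h0], fun i => ?_, fun i j => ?_⟩
        · simp [hG, hlin i, SubstBij1.coeff_single_mul, pow_two]
        · rw [hG, pow_two, pow_two, X_def, X_def, monomial_mul_monomial, monomial_mul_monomial,
            monomial_mul_monomial, mul_one]
          simp only [map_sub, map_add, coeff_C_mul, coeff_monomial]
          fin_cases i <;> fin_cases j <;>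
            simp [ha, hb, hc, Finsupp.ext_iff, Fin.forall_fin_two, Finsupp.single_apply,
              add_comm (Finsupp.single (1 : Fin 2) 1) (Finsupp.single 0 1)]
      have hy1 : ∀ i, Morse19.O 1 (y i) := fun i => Morse19.O_iff.2 fun e he => by
        rw [(Finsupp.degree_eq_zero_iff e).1 (Nat.lt_one_iff.1 he), coeff_zero_eq_constantCoeff_apply, hy]
      have hσG : Morse19.O 3 (σ G) := by
        rw [hσ, autOf_apply]; exact Morse19.O_subst y hy1 _ hG3
      have hFG : F = G + (C a * X 0 ^ 2 + C b * (X 0 * X 1) + C c * X 1 ^ 2) := by rw [hG]; ring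
      have hσF : σ F = σ G + (C a * y 0 ^ 2 + C b * (y 0 * y 1) + C c * y 1 ^ 2) := by
        have hC : ∀ r : k, σ (C r) = C r := fun r => by
          rw [hσ, autOf_apply, subst_C]
        conv_lhs => rw [hFG]
        simp only [map_add, map_mul, map_pow, hC, hσ, autOf_X] at *
        simp only [hC]
      rw [O_three_iff] at hσG
      obtain ⟨hσG0, hσG1, hσG2⟩ := hσG
      have key2 := exists_equiv_of_coeff_sq h2 (σ F) (by rw [hσF]; simp [hσG0, hy])
        (by rw [hσF]; simp [hσG1, hy, SubstBij1.coeff_single_mul, pow_two])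
        (by
          rw [hσF, map_add, show (Finsupp.single (0 : Fin 2) 2) = Finsupp.single 0 1 + Finsupp.single 0 1 by
            rw [← Finsupp.single_add], hσG2 0 0, zero_add]
          have hy2 : ∀ i j : Fin 2, coeff (Finsupp.single (0 : Fin 2) 1 + Finsupp.single 0 1) (y i * y j) =
              coeff (Finsupp.single 0 1) (y i) * coeff (Finsupp.single 0 1) (y j) := fun i j => by
            rw [← Finsupp.single_add, coeff_mul, Finsupp.antidiagonal_single, Finset.sum_map,
              show Finset.HasAntidiagonal.antidiagonal (1 + 1 : ℕ) = {(0, 2), (1, 1), (2, 0)} from rfl]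
            simp [coeff_zero_eq_constantCoeff_apply, hy]
          simp only [map_add, coeff_C_mul, pow_two, hy2]
          simpa [y, lc_X, coeff_C_mul, pow_two] using hQ)
      have e : (P ⧸ Ideal.span ({F} : Set P)) ≃ₐ[k] (P ⧸ Ideal.span ({σ F} : Set P)) :=
        Ideal.quotientEquivAlg _ _ σ (by rw [Ideal.map_span, Set.image_singleton]; rfl)
      rcases key2 with ⟨n, ⟨e'⟩⟩ | h'
      · exact Or.inl ⟨n, ⟨e.trans e'⟩⟩
      · exact h'.elim fun e' => Or.inr ⟨e.trans e'⟩
    by_cases haz : a = 0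
    · by_cases hcz : c = 0
      · refine key 1 1 0 1 (by simp) ?_
        intro h
        apply h3
        refine O_three_iff.2 ⟨h0, hlin, fun i j => ?_⟩
        have hb0 : b = 0 := by simpa [haz, hcz] using h
        fin_cases i <;> fin_cases j
        · exact haz
        · exact hb0
        · rw [add_comm]; exact hb0
        · exact hcz
      · exact key 0 1 1 0 (by simp) (by simpa using hcz)
    · exact key 1 0 0 1 (by simp) (by simpa using haz)
  · push Not at hlin
    obtain ⟨i, hi⟩ := hlin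
    left
    refine ⟨0, ?_⟩
    obtain ⟨j, hj⟩ : ∃ j : Fin 2, j ≠ i := exists_ne i
    have hJ : IsUnit (SubstBij1.lin (![F, X j] : Fin 2 → P)).det := det_ne_zero (by
      fin_cases i <;> fin_cases j <;> simp_all [lc_X])
    have hJ' : IsUnit (SubstBij1.lin (![ArSing.eqn k 0, X 1] : Fin 2 → P)).det := det_ne_zero (by
      simp [lc_X, ArSing.eqn, pow_two, SubstBij1.coeff_single_mul])
    let σ := autOf ![F, X j] (by simp [Fin.forall_fin_two, h0]) hJ
    let τ := autOf ![ArSing.eqn k 0, X 1] (by simp [Fin.forall_fin_two, ArSing.eqn]) hJ'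
    refine quot_equiv (τ.symm.trans σ) ?_
    rw [AlgEquiv.trans_apply]
    have hτ : τ.symm (ArSing.eqn k 0) = X 0 := τ.symm_apply_eq.2 (autOf_X ![ArSing.eqn k 0, X 1] _ _ 0).symm
    rw [hτ]
    show _ = Ideal.span {autOf _ _ _ (X 0)}
    rw [autOf_X]
    rfl

theorem O_le_pow (r : ℕ) : ∀ F : P, Morse19.O r F → F ∈ IsLocalRing.maximalIdeal P ^ r := by
  induction r with
  | zero => intro F _; simp
  | succ r ih =>
    intro F hF
    rw [← Morse19.sum_X_mul_D F (hF.constantCoeff (by omega)), pow_succ']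
    refine Ideal.sum_mem _ fun i _ => Ideal.mul_mem_mul ?_ (ih _ (Morse19.O_D i hF))
    rw [IsLocalRing.mem_maximalIdeal, mem_nonunits_iff, MvPowerSeries.isUnit_iff_constantCoeff]
    simp

theorem pow_le_O (r : ℕ) : ∀ F ∈ IsLocalRing.maximalIdeal P ^ r, Morse19.O r F := by
  induction r with
  | zero => intro F _; exact Morse19.O_zero_left F
  | succ r ih =>
    intro F hF
    rw [pow_succ] at hF
    refine Submodule.mul_induction_on hF (fun a ha b hb => ?_) (fun a b ha hb => ha.add hb)
    refine (ih a ha).mul (Morse19.O_iff.2 fun e he => ?_)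
    rw [(Finsupp.degree_eq_zero_iff e).1 (Nat.lt_one_iff.1 he), coeff_zero_eq_constantCoeff_apply,
      SubstBij1.constantCoeff_eq_zero_of_mem hb]

instance finite_quot_pow : Module.Finite k (P ⧸ IsLocalRing.maximalIdeal P ^ 3) := by
  classical
  haveI : Finite {e : Fin 2 →₀ ℕ // e.degree < 3} :=
    Finite.of_injective (fun e => ((⟨e.1 0, by
        have h := e.2; rw [Finsupp.degree_eq_sum, Fin.sum_univ_two] at h; omega⟩ : Fin 3),
      (⟨e.1 1, by
        have h := e.2; rw [Finsupp.degree_eq_sum, Fin.sum_univ_two] at h; omega⟩ : Fin 3)))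
      fun e e' h => by
        simp only [Prod.mk.injEq, Fin.mk.injEq] at h
        exact Subtype.ext (Finsupp.ext fun i => by fin_cases i <;> simp [h.1, h.2])
  let φ : P →ₗ[k] ({e : Fin 2 →₀ ℕ // e.degree < 3} → k) := LinearMap.pi fun e => coeff e.1
  have hker : LinearMap.ker φ ≤ (IsLocalRing.maximalIdeal P ^ 3).restrictScalars k := fun F hF =>
    O_le_pow 3 F (Morse19.O_iff.2 fun e he => congrFun (LinearMap.mem_ker.1 hF) ⟨e, he⟩)
  exact Module.Finite.of_surjective
    (((LinearMap.ker φ).liftQ (Ideal.Quotient.mkₐ k _).toLinearMap fun F hF =>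
      Ideal.Quotient.eq_zero_iff_mem.2 (hker hF)).comp φ.quotKerEquivRange.symm.toLinearMap)
    (fun x => by
      obtain ⟨F, rfl⟩ := Ideal.Quotient.mk_surjective x
      refine ⟨φ.quotKerEquivRange (Submodule.Quotient.mk F), ?_⟩
      rw [LinearMap.comp_apply, LinearEquiv.coe_coe, LinearEquiv.symm_apply_apply]
      rfl)

/-- Reduction of an isomorphism modulo the cube of the maximal ideal. -/
def redEquiv {F G : P} (hF : constantCoeff F = 0) (hG : constantCoeff G = 0)
    (e : (P ⧸ Ideal.span ({F} : Set P)) ≃ₐ[k] (P ⧸ Ideal.span ({G} : Set P))) :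
    (P ⧸ Ideal.span {F} ⊔ IsLocalRing.maximalIdeal P ^ 3) ≃ₐ[k]
      (P ⧸ Ideal.span {G} ⊔ IsLocalRing.maximalIdeal P ^ 3) := by
  have hnt : ∀ {H : P}, constantCoeff H = 0 → Ideal.span ({H} : Set P) ≠ ⊤ := fun {H} hH h => by
    rw [Ideal.span_singleton_eq_top, MvPowerSeries.isUnit_iff_constantCoeff, hH] at h
    exact not_isUnit_zero h
  haveI := Ideal.Quotient.nontrivial_iff.2 (hnt hF)
  haveI := Ideal.Quotient.nontrivial_iff.2 (hnt hG)
  haveI : IsLocalRing (P ⧸ Ideal.span ({F} : Set P)) :=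
    IsLocalRing.of_surjective' (Ideal.Quotient.mk _) Ideal.Quotient.mk_surjective
  haveI : IsLocalRing (P ⧸ Ideal.span ({G} : Set P)) :=
    IsLocalRing.of_surjective' (Ideal.Quotient.mk _) Ideal.Quotient.mk_surjective
  refine (DoubleQuot.quotQuotEquivQuotSupₐ k _ _).symm.trans
    ((Ideal.quotientEquivAlg _ _ e ?_).trans (DoubleQuot.quotQuotEquivQuotSupₐ k _ _))
  show (IsLocalRing.maximalIdeal P ^ 3).map (Ideal.Quotient.mk (Ideal.span {G})) =
    ((IsLocalRing.maximalIdeal P ^ 3).map (Ideal.Quotient.mk (Ideal.span {F}))).map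
      (e : (P ⧸ Ideal.span ({F} : Set P)) →+* (P ⧸ Ideal.span ({G} : Set P)))
  rw [Ideal.map_pow, Ideal.map_pow, Ideal.map_pow,
    IsLocalRing.map_maximalIdeal_of_surjective _ Ideal.Quotient.mk_surjective,
    IsLocalRing.map_maximalIdeal_of_surjective _ Ideal.Quotient.mk_surjective,
    IsLocalRing.map_maximalIdeal_of_surjective _ e.surjective]

theorem no_equiv {F G : P} (hF : Morse19.O 3 F) (hG0 : constantCoeff G = 0) (hG : ¬ Morse19.O 3 G)
    (e : (P ⧸ Ideal.span ({F} : Set P)) ≃ₐ[k] (P ⧸ Ideal.span ({G} : Set P))) : False := by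
  have h0 : Ideal.span {F} ⊔ IsLocalRing.maximalIdeal P ^ 3 = IsLocalRing.maximalIdeal P ^ 3 :=
    sup_eq_right.2 (by rw [Ideal.span_singleton_le_iff_mem]; exact O_le_pow 3 F hF)
  let e' := (Ideal.quotientEquivAlgOfEq k h0.symm).trans (redEquiv (hF.constantCoeff (by omega)) hG0 e)
  let p : (P ⧸ IsLocalRing.maximalIdeal P ^ 3) →ₐ[k] P ⧸ Ideal.span {G} ⊔ IsLocalRing.maximalIdeal P ^ 3 :=
    Ideal.Quotient.factorₐ k le_sup_right
  have hp : Function.Surjective p := Ideal.Quotient.factor_surjective le_sup_right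
  have hinj : Function.Injective p := by
    haveI : Module.Finite k (P ⧸ Ideal.span {G} ⊔ IsLocalRing.maximalIdeal P ^ 3) :=
      Module.Finite.equiv e'.toLinearEquiv
    exact (LinearMap.injective_iff_surjective_of_finrank_eq_finrank
      (f := p.toLinearMap) e'.toLinearEquiv.finrank_eq).2 hp
  refine hG (pow_le_O 3 G (Ideal.Quotient.eq_zero_iff_mem.1 (hinj ?_)))
  rw [map_zero]
  exact Ideal.Quotient.eq_zero_iff_mem.2 (Ideal.mem_sup_left (Ideal.mem_span_singleton_self G))

theorem not_equiv {F : P} (hF : Morse19.O 3 F) :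
    ¬ ((∃ n : ℕ, Nonempty ((P ⧸ Ideal.span ({F} : Set P)) ≃ₐ[k] ArSing.ring k n)) ∨
      Nonempty ((P ⧸ Ideal.span ({F} : Set P)) ≃ₐ[k] (P ⧸ Ideal.span ({X 1 ^ 2} : Set P)))) := by
  classical
  have hX : ¬ Morse19.O 3 (X 1 ^ 2 : P) := fun h => by
    have := (O_three_iff.1 h).2.2 1 1
    rw [← Finsupp.single_add, X_pow_eq, coeff_monomial_same] at this
    exact one_ne_zero this
  rintro (⟨n, ⟨e⟩⟩ | he)
  · refine no_equiv hF (by simp [ArSing.eqn]) (fun h => ?_) e
    rcases Nat.eq_zero_or_pos n with rfl | hn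
    · have := (O_three_iff.1 h).2.1 0
      simp [ArSing.eqn, lc_X, pow_two, SubstBij1.coeff_single_mul] at this
    · have := (O_three_iff.1 h).2.2 1 1
      rw [← Finsupp.single_add, ArSing.eqn, map_sub, X_pow_eq, coeff_monomial_same, X_pow_eq,
        coeff_monomial, if_neg (fun he => by
          have := DFunLike.congr_fun he 1
          simp at this), sub_zero] at this
      exact one_ne_zero this
  · exact he.elim fun e => no_equiv hF (by simp) hX e

section Taylor

variable (a : Fin 2 → k) (f : MvPolynomial (Fin 2) k)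

/-- `f` recentred at `a`. -/
def shift : MvPolynomial (Fin 2) k →ₐ[k] MvPolynomial (Fin 2) k :=
  MvPolynomial.aeval fun i => MvPolynomial.X i + MvPolynomial.C (a i)

theorem pderiv_shift (i : Fin 2) :
    MvPolynomial.pderiv i (shift a f) = shift a (MvPolynomial.pderiv i f) := by
  induction f using MvPolynomial.induction_on with
  | C r => simp [shift]
  | add p q hp hq => simp [hp, hq]
  | mul_X p j hp =>
    rw [map_mul, MvPolynomial.pderiv_mul, MvPolynomial.pderiv_mul, map_add, map_mul, map_mul, hp]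
    congr 1
    congr 1
    by_cases hij : j = i
    · subst hij; simp [shift]
    · simp [shift, MvPolynomial.pderiv_X_of_ne hij]

theorem constantCoeff_shift : MvPolynomial.constantCoeff (shift a f) = MvPolynomial.eval a f := by
  induction f using MvPolynomial.induction_on with
  | C r => simp [shift]
  | add p q hp hq => simp [hp, hq]
  | mul_X p j hp =>
    rw [map_mul, map_mul, hp]
    simp [shift]

theorem eval_pderiv (i : Fin 2) :
    MvPolynomial.eval a (MvPolynomial.pderiv i f) = (shift a f).coeff (Finsupp.single i 1) := by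
  rw [← constantCoeff_shift, ← pderiv_shift, MvPolynomial.constantCoeff_eq, MvPolynomial.coeff_pderiv]
  simp

theorem eval_pderiv_pderiv (i j : Fin 2) :
    MvPolynomial.eval a (MvPolynomial.pderiv i (MvPolynomial.pderiv j f)) =
      (shift a f).coeff (Finsupp.single i 1 + Finsupp.single j 1) *
        (if i = j then (2 : k) else 1) := by
  rw [eval_pderiv, ← pderiv_shift, MvPolynomial.coeff_pderiv]
  congr 1
  by_cases h : i = j
  · subst h; simp [one_add_one_eq_two]
  · simp [h, Finsupp.single_apply]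

theorem main [IsAlgClosed k] (h2 : (2 : k) ≠ 0) (hfa : MvPolynomial.eval a f = 0) :
    ((∀ i : Fin 2, MvPolynomial.eval a (MvPolynomial.pderiv i f) = 0) ∧
      ∀ i j : Fin 2, MvPolynomial.eval a (MvPolynomial.pderiv i (MvPolynomial.pderiv j f)) = 0) ↔
    ¬ ((∃ n : ℕ, Nonempty ((P ⧸ Ideal.span ({(shift a f).toMvPowerSeries} : Set P)) ≃ₐ[k] ArSing.ring k n)) ∨
      Nonempty ((P ⧸ Ideal.span ({(shift a f).toMvPowerSeries} : Set P)) ≃ₐ[k]
        (P ⧸ Ideal.span ({X 1 ^ 2} : Set P)))) := by
  set F : P := (shift a f).toMvPowerSeries with hFdef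
  have h0 : constantCoeff F = 0 := by
    rw [← coeff_zero_eq_constantCoeff_apply, hFdef, MvPolynomial.coeff_coe, ← MvPolynomial.constantCoeff_eq,
      constantCoeff_shift, hfa]
  have key : ((∀ i : Fin 2, MvPolynomial.eval a (MvPolynomial.pderiv i f) = 0) ∧
      ∀ i j : Fin 2, MvPolynomial.eval a (MvPolynomial.pderiv i (MvPolynomial.pderiv j f)) = 0) ↔
      Morse19.O 3 F := by
    rw [O_three_iff, hFdef]
    simp only [eval_pderiv_pderiv, MvPolynomial.coeff_coe, mul_eq_zero]
    simp only [eval_pderiv]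
    constructor
    · rintro ⟨h1, h2'⟩
      refine ⟨h0, h1, fun i j => (h2' i j).resolve_right ?_⟩
      split_ifs
      · exact h2
      · exact one_ne_zero
    · rintro ⟨-, h1, h2'⟩
      exact ⟨h1, fun i j => Or.inl (h2' i j)⟩
  rw [key]
  refine ⟨not_equiv, fun h => ?_⟩
  by_contra h3
  exact h (exists_equiv h2 F h0 h3)

end Taylor

end Groth.Agent.ArSing29.DP
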