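import Groth.Agent.Lib.ArSing29.Basic
import Mathlib.RingTheory.PowerSeries.Expand

/-!
# Even and odd parts of power series, and their images in `k[[x, y]]/(y^2 - x^(r+1))`
-/

set_option autoImplicit false

universe u

namespace Groth.Agent.ArSing29

open ArSing

variable (k : Type u) [Field k]

/-- `f(t) ↦ f(t^2)`. -/
noncomputable abbrev sq2 : PowerSeries k →ₐ[k] PowerSeries k := PowerSeries.expand 2 two_ne_zero

theorem split_eq (a b : PowerSeries k) (i : ℕ) :
    PowerSeries.coeff (2 * i) (sq2 k a + PowerSeries.X * sq2 k b) = PowerSeries.coeff i a ∧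
    PowerSeries.coeff (2 * i + 1) (sq2 k a + PowerSeries.X * sq2 k b) = PowerSeries.coeff i b := by
  constructor
  · rw [map_add, PowerSeries.coeff_expand_mul]
    rcases i with _ | i
    · simp
    · rw [show 2 * (i + 1) = (2 * i + 1) + 1 by ring, PowerSeries.coeff_succ_X_mul,
        PowerSeries.coeff_expand_of_not_dvd 2 two_ne_zero _ (by omega), add_zero]
  · rw [map_add, PowerSeries.coeff_succ_X_mul, PowerSeries.coeff_expand_mul,
      PowerSeries.coeff_expand_of_not_dvd 2 two_ne_zero _ (by omega), zero_add]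

theorem exists_split (f : PowerSeries k) : ∃ a b, sq2 k a + PowerSeries.X * sq2 k b = f := by
  refine ⟨PowerSeries.mk fun i => PowerSeries.coeff (2 * i) f, PowerSeries.mk fun i => PowerSeries.coeff (2 * i + 1) f, ?_⟩
  ext n
  rcases Nat.even_or_odd' n with ⟨i, rfl | rfl⟩
  · rw [(split_eq k _ _ i).1, PowerSeries.coeff_mk]
  · rw [(split_eq k _ _ i).2, PowerSeries.coeff_mk]

theorem split_inj {a b a' b' : PowerSeries k}
    (h : sq2 k a + PowerSeries.X * sq2 k b = sq2 k a' + PowerSeries.X * sq2 k b') : a = a' ∧ b = b' :=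
  ⟨PowerSeries.ext fun i => by rw [← (split_eq k a b i).1, h, (split_eq k a' b' i).1],
    PowerSeries.ext fun i => by rw [← (split_eq k a b i).2, h, (split_eq k a' b' i).2]⟩

theorem rescale_sq2 (a : PowerSeries k) : PowerSeries.rescale (-1 : k) (sq2 k a) = sq2 k a := by
  ext n
  rw [PowerSeries.coeff_rescale, PowerSeries.coeff_expand]
  split_ifs with h
  · obtain ⟨i, rfl⟩ := h; simp [pow_mul]
  · simp

theorem rescale_split (a b : PowerSeries k) :
    PowerSeries.rescale (-1 : k) (sq2 k a + PowerSeries.X * sq2 k b) = sq2 k a + PowerSeries.X * sq2 k (-b) := by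
  rw [map_add, map_mul, rescale_sq2, rescale_sq2, PowerSeries.rescale_X]
  simp

theorem isUnit_two (h2 : (2 : k) ≠ 0) : IsUnit (2 : PowerSeries k) := by
  rw [PowerSeries.isUnit_iff_constantCoeff, map_ofNat, isUnit_iff_ne_zero]; exact h2

theorem rescale_eq_iff (h2 : (2 : k) ≠ 0) (f : PowerSeries k) :
    PowerSeries.rescale (-1 : k) f = f ↔ ∃ a, sq2 k a = f := by
  constructor
  · intro h
    obtain ⟨a, b, rfl⟩ := exists_split k f
    rw [rescale_split] at h
    have hb : b = 0 := (isUnit_two k h2).mul_right_eq_zero.1 (by linear_combination -(split_inj k h).2)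
    exact ⟨a, by simp [hb]⟩
  · rintro ⟨a, rfl⟩; exact rescale_sq2 k a

theorem rescale_eq_neg_iff (h2 : (2 : k) ≠ 0) (f : PowerSeries k) :
    -PowerSeries.rescale (-1 : k) f = f ↔ ∃ b, PowerSeries.X * sq2 k b = f := by
  constructor
  · intro h
    obtain ⟨a, b, rfl⟩ := exists_split k f
    rw [rescale_split, show -(sq2 k a + PowerSeries.X * sq2 k (-b)) = sq2 k (-a) + PowerSeries.X * sq2 k b by
      simp only [map_neg]; ring] at h
    have ha : a = 0 := (isUnit_two k h2).mul_right_eq_zero.1 (by linear_combination -(split_inj k h).1)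
    exact ⟨b, by simp [ha]⟩
  · rintro ⟨b, rfl⟩
    rw [map_mul, rescale_sq2, PowerSeries.rescale_X]; simp

theorem X_dvd_rescale_sub (c : k) (f : PowerSeries k) : PowerSeries.X ∣ PowerSeries.rescale c f - f := by
  rw [PowerSeries.X_dvd_iff, map_sub, sub_eq_zero, ← PowerSeries.coeff_zero_eq_constantCoeff_apply,
    PowerSeries.coeff_rescale, pow_zero, one_mul, PowerSeries.coeff_zero_eq_constantCoeff_apply]

theorem map_xMap_sq (r r' : ℕ) (φ : ring k r' →ₐ[k] ring k r) (hφx : φ (x k r') = x k r ^ 2) (f : PowerSeries k) :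
    φ (xMap k r' f) = xMap k r (sq2 k f) :=
  AlgHom.congr_fun (algHom_ext k r (φ.comp (xMap k r')) ((xMap k r).comp (sq2 k))
    (by show φ (xMap k r' PowerSeries.X) = xMap k r (sq2 k PowerSeries.X); rw [xMap_X, hφx, PowerSeries.expand_X, map_pow, xMap_X])
    (by show x k r ∣ φ (xMap k r' PowerSeries.X); rw [xMap_X, hφx]; exact dvd_pow_self _ two_ne_zero)) f

/-- The length of `A ⧸ I` when `I ≤ M = I + (b)` and `(I : b) = M`. -/
theorem length_quotient_step {A : Type u} [CommRing A] (I M : Ideal A) (b : A)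
    (hcolon : ∀ a, b * a ∈ I ↔ a ∈ M) (hM : M = I ⊔ Ideal.span {b}) :
    Module.length A (A ⧸ I) = Module.length A (A ⧸ M) + Module.length A (A ⧸ M) := by
  have hle : I ≤ M := hM ▸ le_sup_left
  let g : (A ⧸ M) →ₗ[A] A ⧸ I := Submodule.mapQ M I (LinearMap.mulLeft A b) fun a ha => (hcolon a).2 ha
  have hg : ∀ a, g (Submodule.Quotient.mk a) = Submodule.Quotient.mk (b * a) := fun a => rfl
  refine Module.length_eq_add_of_exact g (Submodule.factor hle) ?_ (Submodule.factor_surjective hle) ?_
  · rw [injective_iff_map_eq_zero]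
    intro q hq
    obtain ⟨a, rfl⟩ := Submodule.Quotient.mk_surjective _ q
    rw [hg, Submodule.Quotient.mk_eq_zero] at hq
    rw [Submodule.Quotient.mk_eq_zero]
    exact (hcolon a).1 hq
  · intro q
    obtain ⟨a, rfl⟩ := Submodule.Quotient.mk_surjective _ q
    show (Submodule.Quotient.mk a : A ⧸ M) = 0 ↔ _
    rw [Submodule.Quotient.mk_eq_zero]
    constructor
    · intro h
      rw [hM] at h
      obtain ⟨c, hc, d, hd, rfl⟩ := Submodule.mem_sup.1 h
      obtain ⟨d, rfl⟩ := Ideal.mem_span_singleton'.1 hd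
      refine ⟨Submodule.Quotient.mk d, ?_⟩
      rw [hg, Submodule.Quotient.eq, show b * d - (c + d * b) = -c by ring]
      exact neg_mem hc
    · rintro ⟨q, hq⟩
      obtain ⟨d, rfl⟩ := Submodule.Quotient.mk_surjective _ q
      rw [hg, Submodule.Quotient.eq] at hq
      have h1 : b * d ∈ M := hM ▸ Ideal.mul_mem_right _ _ (Submodule.mem_sup_right (Ideal.mem_span_singleton_self b))
      simpa using sub_mem h1 (hle hq)

theorem length_quot_x (r : ℕ) (hr : 1 ≤ r) :
    Module.length (ring k r) (ring k r ⧸ (Ideal.span {x k r} : Ideal (ring k r))) = 2 := by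
  rw [length_quotient_step (Ideal.span {x k r}) (Ideal.span {x k r, y k r}) (y k r) ?_ (Ideal.span_insert _ _),
    length_quot_xy]
  · rfl
  intro a
  obtain ⟨f, g, rfl⟩ := exists_rep k r a
  rw [Ideal.mem_span_singleton, Ideal.mem_span_pair]
  constructor
  · rintro ⟨t, ht⟩
    obtain ⟨p, q, rfl⟩ := exists_rep k r t
    have e : xMap k r (g * PowerSeries.X ^ (r + 1)) + xMap k r f * y k r =
        xMap k r (PowerSeries.X * p) + xMap k r (PowerSeries.X * q) * y k r := by
      simp only [map_mul, xMap_X]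
      linear_combination ht + (- xMap k r g) * y_mul_y k r
    rw [(rep_inj k r e).2]
    exact ⟨xMap k r q, xMap k r g, by rw [map_mul, xMap_X]; ring⟩
  · rintro ⟨c, d, h⟩
    exact ⟨y k r * c + d * xMap k r (PowerSeries.X ^ r), by
      rw [← h, map_pow, xMap_X]
      linear_combination d * ((y_mul_y k r).trans (by rw [map_pow, xMap_X, pow_succ]))⟩

end Groth.Agent.ArSing29
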