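import Groth.Agent.Lib.ArSing29.Even
import Mathlib.RingTheory.Ideal.MinimalPrime.Basic
import Mathlib.RingTheory.Flat.EquationalCriterion

/-!
# The two branches of the node `k[[x, y]]/(y^2 - x^2)`
-/

set_option autoImplicit false
set_option maxHeartbeats 400000

universe u

namespace Groth.Agent.ArSing29

open ArSing

variable (k : Type u) [Field k]

/-- Endomorphisms of `k[[t]]` agree if they agree on `t` and send it into `(t)`. -/
theorem ps_ext (ψ₁ ψ₂ : PowerSeries k →ₐ[k] PowerSeries k) (h : ψ₁ PowerSeries.X = ψ₂ PowerSeries.X)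
    (hm : PowerSeries.X ∣ ψ₁ PowerSeries.X) : ψ₁ = ψ₂ := by
  have hpoly : ∀ q : Polynomial k, ψ₁ (q : PowerSeries k) = ψ₂ (q : PowerSeries k) := fun q =>
    AlgHom.congr_fun (Polynomial.algHom_ext (R := k) (f := ψ₁.comp (Polynomial.coeToPowerSeries.algHom k))
      (g := ψ₂.comp (Polynomial.coeToPowerSeries.algHom k)) (by simpa [Polynomial.coeToPowerSeries.algHom_apply] using h)) q
  refine AlgHom.ext fun f => PowerSeries.ext fun n => ?_
  obtain ⟨g, hg⟩ : PowerSeries.X ^ (n + 1) ∣ f - ((PowerSeries.trunc (n + 1) f : Polynomial k) : PowerSeries k) := by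
    rw [PowerSeries.X_pow_dvd_iff]; intro m hm'; simp [PowerSeries.coeff_trunc, hm']
  obtain ⟨w, hw⟩ := hm
  have e : ∀ ψ : PowerSeries k →ₐ[k] PowerSeries k, ψ PowerSeries.X = PowerSeries.X * w →
      PowerSeries.coeff n (ψ f) = PowerSeries.coeff n (ψ ((PowerSeries.trunc (n + 1) f : Polynomial k) : PowerSeries k)) := by
    intro ψ hψ
    rw [congrArg ψ (eq_add_of_sub_eq hg), map_add ψ, map_mul ψ, map_pow ψ, hψ, mul_pow, mul_assoc, map_add,
      PowerSeries.coeff_X_pow_mul', if_neg (by omega), zero_add]
  rw [e ψ₁ hw, e ψ₂ (h ▸ hw), hpoly]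

section

variable {k} (a : ring k 1)

/-- The first component. -/
noncomputable def fst : PowerSeries k := (exists_rep k 1 a).choose

/-- The second component. -/
noncomputable def snd : PowerSeries k := (exists_rep k 1 a).choose_spec.choose

theorem fst_snd : xMap k 1 (fst a) + xMap k 1 (snd a) * y k 1 = a :=
  (exists_rep k 1 a).choose_spec.choose_spec

theorem fst_rep (f g : PowerSeries k) : fst (xMap k 1 f + xMap k 1 g * y k 1) = f :=
  (rep_inj k 1 (fst_snd _)).1

theorem snd_rep (f g : PowerSeries k) : snd (xMap k 1 f + xMap k 1 g * y k 1) = g :=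
  (rep_inj k 1 (fst_snd _)).2

theorem fst_algebraMap (c : k) : fst (algebraMap k (ring k 1) c) = algebraMap k (PowerSeries k) c ∧
    snd (algebraMap k (ring k 1) c) = 0 :=
  rep_inj k 1 ((fst_snd _).trans (by rw [(xMap k 1).commutes, map_zero, zero_mul, add_zero]))

/-- The branch `y = e x`, for a sign `e`. -/
noncomputable def branch (e : PowerSeries k) (he : e * e = 1) : ring k 1 →ₐ[k] PowerSeries k where
  toFun a := fst a + e * PowerSeries.X * snd a
  map_one' := by
    have : (1 : ring k 1) = xMap k 1 1 + xMap k 1 0 * y k 1 := by simp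
    rw [this, fst_rep, snd_rep]; simp
  map_zero' := by
    have : (0 : ring k 1) = xMap k 1 0 + xMap k 1 0 * y k 1 := by simp
    rw [this, fst_rep, snd_rep]; simp
  map_add' a b := by
    have : a + b = xMap k 1 (fst a + fst b) + xMap k 1 (snd a + snd b) * y k 1 := by
      conv_lhs => rw [← fst_snd a, ← fst_snd b]
      simp only [map_add]; ring
    rw [this, fst_rep, snd_rep]; ring
  map_mul' a b := by
    have : a * b = xMap k 1 (fst a * fst b + snd a * snd b * PowerSeries.X ^ (1 + 1)) + xMap k 1 (fst a * snd b + snd a * fst b) * y k 1 := by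
      conv_lhs => rw [← fst_snd a, ← fst_snd b]
      exact rep_mul k 1 _ _ _ _
    rw [this, fst_rep, snd_rep]
    linear_combination (- PowerSeries.X ^ 2 * snd a * snd b) * he
  commutes' c := by
    show fst (algebraMap k (ring k 1) c) + _ = _
    rw [(fst_algebraMap c).1, (fst_algebraMap c).2]; simp

theorem branch_apply (e : PowerSeries k) (he : e * e = 1) : branch e he a = fst a + e * PowerSeries.X * snd a := rfl

theorem branch_rep (e : PowerSeries k) (he : e * e = 1) (f g : PowerSeries k) :
    branch e he (xMap k 1 f + xMap k 1 g * y k 1) = f + e * PowerSeries.X * g := by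
  rw [branch_apply, fst_rep, snd_rep]

theorem branch_xMap (e : PowerSeries k) (he : e * e = 1) (f : PowerSeries k) : branch e he (xMap k 1 f) = f := by
  simpa using branch_rep e he f 0

theorem branch_y (e : PowerSeries k) (he : e * e = 1) : branch e he (y k 1) = e * PowerSeries.X := by
  simpa using branch_rep e he 0 1

theorem branch_x (e : PowerSeries k) (he : e * e = 1) : branch e he (x k 1) = PowerSeries.X := by
  rw [← xMap_X k 1, branch_xMap]

variable (k)

/-- The branch `y = x`. -/
noncomputable def brP : ring k 1 →ₐ[k] PowerSeries k := branch 1 (one_mul 1)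

/-- The branch `y = -x`. -/
noncomputable def brM : ring k 1 →ₐ[k] PowerSeries k := branch (-1) (by ring)

theorem branches_inj (h2 : (2 : k) ≠ 0) {a b : ring k 1} (h1 : brP k a = brP k b) (h2' : brM k a = brM k b) : a = b := by
  rw [brP, branch_apply, branch_apply] at h1
  rw [brM, branch_apply, branch_apply] at h2'
  have hu := isUnit_two k h2
  rw [← fst_snd a, ← fst_snd b, show fst a = fst b from hu.mul_left_cancel (by linear_combination h1 + h2'),
    show snd a = snd b from mul_left_cancel₀ PowerSeries.X_ne_zero (hu.mul_left_cancel (by linear_combination h1 - h2'))]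

theorem branches_surj (h2 : (2 : k) ≠ 0) (P Q : PowerSeries k) (h : PowerSeries.constantCoeff P = PowerSeries.constantCoeff Q) :
    ∃ a, brP k a = P ∧ brM k a = Q := by
  obtain ⟨u, hu⟩ := (isUnit_two k h2).exists_right_inv
  obtain ⟨g, hg⟩ : PowerSeries.X ∣ P - Q := by rw [PowerSeries.X_dvd_iff, map_sub, sub_eq_zero, h]
  refine ⟨xMap k 1 (u * (P + Q)) + xMap k 1 (u * g) * y k 1, ?_, ?_⟩
  · rw [brP, branch_rep]; linear_combination P * hu - u * hg
  · rw [brM, branch_rep]; linear_combination Q * hu + u * hg

theorem constantCoeff_branch (a : ring k 1) :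
    PowerSeries.constantCoeff (brP k a) = PowerSeries.constantCoeff (brM k a) := by
  simp [brP, brM, branch_apply]

end

end Groth.Agent.ArSing29

namespace Groth.Agent.ArSing29

/-- A relation `φ a₀ * b = 0` along a flat map comes from relations downstairs. -/
theorem exists_of_flat_annihilator {A B : Type u} [CommRing A] [CommRing B] (φ : A →+* B) (hflat : φ.Flat)
    (a₀ : A) (b : B) (h : φ a₀ * b = 0) :
    ∃ (l : ℕ) (a : Fin l → A) (z : Fin l → B), b = ∑ j, φ (a j) * z j ∧ ∀ j, a₀ * a j = 0 := by
  letI := φ.toAlgebra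
  haveI : Module.Flat A B := hflat
  obtain ⟨l, a, z, hz, ha⟩ := Module.Flat.isTrivialRelation_of_sum_smul_eq_zero (R := A)
    (f := fun _ : Unit => a₀) (x := fun _ : Unit => b) (by
      simp only [Finset.univ_unique, Finset.sum_singleton, Algebra.smul_def]; exact h)
  refine ⟨l, a (), z, ?_, fun j => by simpa using ha j⟩
  have h1 := hz ()
  simp only [Algebra.smul_def] at h1
  exact h1

end Groth.Agent.ArSing29
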