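import Groth.Agent.Lib.H2Alg.PSHom
import Mathlib

/-! # Successive approximation of a product of two eigen-elements by a constant -/

set_option autoImplicit false
set_option linter.style.haveILetI false
set_option maxHeartbeats 400000
universe u

open IsLocalRing

namespace Groth.Agent.ArSing29

variable {k R S : Type u} [Field k] [CommRing R] [CommRing S] [Algebra k R] [Algebra R S] [Algebra k S]
  [IsScalarTower k R S] [IsLocalRing R] [IsLocalRing S]

/-- One step of approximation. -/
theorem exists_step (hres : ∀ r : R, ∃ c : k, r - algebraMap k R c ∈ maximalIdeal R)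
    (hdecS : ∀ (x y : S), maximalIdeal S ≤ (maximalIdeal R).map (algebraMap R S) ⊔ Ideal.span {x, y} →
      ∀ s : S, ∃ (c : k) (a b : S), s - algebraMap k S c - a * x - b * y ∈ (maximalIdeal R).map (algebraMap R S))
    (h2 : (2 : k) ≠ 0) (σ : S ≃ₐ[R] S) (hσ : ∀ s, σ (σ s) = s) (c₁ c₂ : k) (hc₁ : c₁ ^ 2 = 1) (hc₂ : c₂ ^ 2 = 1)
    (m : ℕ) (hm : 1 ≤ m) (x y : S) (t : R)
    (hxy : maximalIdeal S ≤ (maximalIdeal R).map (algebraMap R S) ⊔ Ideal.span {x, y})
    (hσx : σ x = algebraMap k S c₂ * x) (hσy : σ y = algebraMap k S c₁ * y)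
    (ht : c₁ = -c₂ → t = 0) (hz : x * y - algebraMap R S t ∈ ((maximalIdeal R).map (algebraMap R S)) ^ m) :
    ∃ (x' y' : S) (t' : R), σ x' = algebraMap k S c₂ * x' ∧ σ y' = algebraMap k S c₁ * y' ∧
      (c₁ = -c₂ → t' = 0) ∧ x' - x ∈ ((maximalIdeal R).map (algebraMap R S)) ^ m ∧
      y' - y ∈ ((maximalIdeal R).map (algebraMap R S)) ^ m ∧ t' - t ∈ maximalIdeal R ^ m ∧
      x' * y' - algebraMap R S t' ∈ ((maximalIdeal R).map (algebraMap R S)) ^ (m + 1) := by
  set J := (maximalIdeal R).map (algebraMap R S) with hJdef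
  have hσk : ∀ c : k, σ (algebraMap k S c) = algebraMap k S c := fun c => by
    rw [IsScalarTower.algebraMap_apply k R S, σ.commutes]
  have hσJ : ∀ n, ∀ s ∈ J ^ n, σ s ∈ J ^ n := by
    intro n s hs
    have hc : (σ : S →+* S).comp (algebraMap R S) = algebraMap R S := RingHom.ext σ.commutes
    have h := Ideal.mem_map_of_mem (σ : S →+* S) hs
    rw [Ideal.map_pow, hJdef, Ideal.map_map, hc] at h
    exact h
  have hdec : ∀ z ∈ J ^ m, ∃ r ∈ maximalIdeal R ^ m, ∃ a ∈ J ^ m, ∃ b ∈ J ^ m,
      z - algebraMap R S r - x * a - y * b ∈ J ^ (m + 1) := by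
    intro z hz
    rw [hJdef, ← Ideal.map_pow] at hz
    induction hz using Submodule.span_induction with
    | mem w hw =>
      obtain ⟨r, hr, rfl⟩ := hw
      exact ⟨r, hr, 0, zero_mem _, 0, zero_mem _, by simp⟩
    | zero => exact ⟨0, zero_mem _, 0, zero_mem _, 0, zero_mem _, by simp⟩
    | add v w _ _ hv hw =>
      obtain ⟨r, hr, a, ha, b, hb, h⟩ := hv
      obtain ⟨r', hr', a', ha', b', hb', h'⟩ := hw
      refine ⟨r + r', add_mem hr hr', a + a', add_mem ha ha', b + b', add_mem hb hb', ?_⟩
      have := add_mem h h'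
      convert this using 1
      rw [map_add]; ring
    | smul s w _ hw =>
      obtain ⟨r, hr, a, ha, b, hb, h⟩ := hw
      obtain ⟨c, α, β, hs⟩ := hdecS x y hxy s
      have hrJ : algebraMap R S r ∈ J ^ m := by
        rw [hJdef, ← Ideal.map_pow]; exact Ideal.mem_map_of_mem _ hr
      refine ⟨algebraMap k R c * r, Ideal.mul_mem_left _ _ hr, α * algebraMap R S r + s * a,
        add_mem (Ideal.mul_mem_left _ _ hrJ) (Ideal.mul_mem_left _ _ ha), β * algebraMap R S r + s * b,
        add_mem (Ideal.mul_mem_left _ _ hrJ) (Ideal.mul_mem_left _ _ hb), ?_⟩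
      have e : s • w - algebraMap R S (algebraMap k R c * r) - x * (α * algebraMap R S r + s * a)
            - y * (β * algebraMap R S r + s * b)
          = s * (w - algebraMap R S r - x * a - y * b)
            + (s - algebraMap k S c - α * x - β * y) * algebraMap R S r := by
        rw [smul_eq_mul, map_mul, ← IsScalarTower.algebraMap_apply k R S]; ring
      rw [e]
      refine add_mem (Ideal.mul_mem_left _ _ h) ?_
      rw [pow_succ']
      exact Ideal.mul_mem_mul hs hrJ
  obtain ⟨r, hr, a, ha, b, hb, hE⟩ := hdec _ hz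
  have hh : algebraMap k S 2⁻¹ * 2 = 1 := by
    rw [← map_ofNat (algebraMap k S) 2, ← map_mul, inv_mul_cancel₀ h2, map_one]
  have hcc₁ : algebraMap k S c₁ * algebraMap k S c₁ = 1 := by rw [← map_mul, ← pow_two, hc₁, map_one]
  have hcc₂ : algebraMap k S c₂ * algebraMap k S c₂ = 1 := by rw [← map_mul, ← pow_two, hc₂, map_one]
  have hσz : algebraMap k S (c₁ * c₂) * σ (x * y - algebraMap R S t) = x * y - algebraMap R S t := by
    have hz' : algebraMap k S (c₁ * c₂) * algebraMap R S t = algebraMap R S t := by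
      by_cases h : c₁ = -c₂
      · rw [ht h, map_zero, mul_zero]
      · have : c₁ = c₂ := by
          rcases eq_or_eq_neg_of_sq_eq_sq c₁ c₂ (hc₁.trans hc₂.symm) with e | e
          · exact e
          · exact absurd e h
        rw [this, ← pow_two, hc₂, map_one, one_mul]
    simp only [map_sub, map_mul, AlgEquiv.commutes, hσx, hσy] at hz' ⊢
    rw [mul_sub, hz']
    linear_combination (algebraMap k S c₂ * algebraMap k S c₂ * x * y) * hcc₁ + (x * y) * hcc₂
  set half := algebraMap k S 2⁻¹ with hhalf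
  refine ⟨x - half * (b + algebraMap k S c₂ * σ b), y - half * (a + algebraMap k S c₁ * σ a),
    t + algebraMap k R (2⁻¹ * (1 + c₁ * c₂)) * r, ?_, ?_, ?_, ?_, ?_, ?_, ?_⟩
  · rw [map_sub, map_mul, map_add, map_mul, hσ, hσk, hσk, hσx]
    linear_combination (half * σ b) * hcc₂
  · rw [map_sub, map_mul, map_add, map_mul, hσ, hσk, hσk, hσy]
    linear_combination (half * σ a) * hcc₁
  · intro h
    rw [ht h, zero_add, h, neg_mul, ← pow_two, hc₂, add_neg_cancel, mul_zero, map_zero, zero_mul]
  · rw [sub_sub_cancel_left]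
    exact neg_mem (Ideal.mul_mem_left _ _ (add_mem hb (Ideal.mul_mem_left _ _ (hσJ m b hb))))
  · rw [sub_sub_cancel_left]
    exact neg_mem (Ideal.mul_mem_left _ _ (add_mem ha (Ideal.mul_mem_left _ _ (hσJ m a ha))))
  · rw [add_sub_cancel_left]; exact Ideal.mul_mem_left _ _ hr
  · have hσE := hσJ _ _ hE
    simp only [map_sub, map_mul, AlgEquiv.commutes, hσx, hσy] at hσE
    simp only [map_sub, map_mul, AlgEquiv.commutes, hσx, hσy] at hσz
    have e : (x - half * (b + algebraMap k S c₂ * σ b)) * (y - half * (a + algebraMap k S c₁ * σ a))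
          - algebraMap R S (t + algebraMap k R (2⁻¹ * (1 + c₁ * c₂)) * r)
        = half * (x * y - algebraMap R S t - algebraMap R S r - x * a - y * b)
          + half * algebraMap k S (c₁ * c₂) * (algebraMap k S c₂ * x * (algebraMap k S c₁ * y) - algebraMap R S t
              - algebraMap R S r - algebraMap k S c₂ * x * σ a - algebraMap k S c₁ * y * σ b)
          + (half * (b + algebraMap k S c₂ * σ b)) * (half * (a + algebraMap k S c₁ * σ a)) := by
      simp only [map_add, map_mul, map_one, ← IsScalarTower.algebraMap_apply k R S, ← hhalf] at hσz ⊢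
      linear_combination (-(x * y - algebraMap R S t)) * hh + (-half) * hσz
        + (half * x * σ a * algebraMap k S c₁) * hcc₂ + (half * y * σ b * algebraMap k S c₂) * hcc₁
    rw [e]
    refine add_mem (add_mem (Ideal.mul_mem_left _ _ hE) (Ideal.mul_mem_left _ _ hσE)) ?_
    refine Ideal.pow_le_pow_right (show m + 1 ≤ m + m by omega) ?_
    rw [pow_add]
    exact Ideal.mul_mem_mul (Ideal.mul_mem_left _ _ (add_mem hb (Ideal.mul_mem_left _ _ (hσJ m b hb))))
      (Ideal.mul_mem_left _ _ (add_mem ha (Ideal.mul_mem_left _ _ (hσJ m a ha))))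

end Groth.Agent.ArSing29
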