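import Groth.Agent.Lib.H2Alg.PSHom
import Mathlib

/-! # The closed fibre of a node: branches, and eigen-generators for an involution -/

set_option autoImplicit false
set_option linter.style.haveILetI false
set_option maxHeartbeats 400000
universe u

open IsLocalRing

namespace Groth.Agent.ArSing29

variable (k : Type u) [Field k]

/-- The ring of a branch. -/
abbrev Br := MvPowerSeries (Fin 1) k

/-- The parameter of a branch. -/
noncomputable abbrev par : Br k := MvPowerSeries.X 0

theorem par_ne_zero : par k ≠ 0 := by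
  intro h
  have h1 : MvPowerSeries.coeff (Finsupp.single (0 : Fin 1) 1) (par k) = 0 := by rw [h, map_zero]
  rw [MvPowerSeries.coeff_X, if_pos rfl] at h1
  exact one_ne_zero h1

/-- An element lies in an ideal if it does so modulo every power of the maximal ideal. -/
theorem mem_of_forall_mem_sup_pow {S : Type u} [CommRing S] [IsLocalRing S] [IsNoetherianRing S] (I : Ideal S)
    {s : S} (h : ∀ n : ℕ, s ∈ I ⊔ maximalIdeal S ^ n) : s ∈ I := by
  by_cases hI : I = ⊤
  · rw [hI]; trivial
  haveI : Nontrivial (S ⧸ I) := Ideal.Quotient.nontrivial_iff.2 hI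
  haveI : IsLocalRing (S ⧸ I) := IsLocalRing.of_surjective' (Ideal.Quotient.mk I) Ideal.Quotient.mk_surjective
  rw [← Ideal.Quotient.eq_zero_iff_mem]
  refine IsHausdorff.haus (inferInstance : IsHausdorff (maximalIdeal (S ⧸ I)) (S ⧸ I)) _ fun n => ?_
  rw [SModEq.zero, smul_eq_mul, Ideal.mul_top]
  have h1 := Ideal.mem_map_of_mem (Ideal.Quotient.mk I) (h n)
  rw [Ideal.map_sup, Ideal.map_quotient_self, bot_sup_eq, Ideal.map_pow,
    map_maximalIdeal_of_surjective _ Ideal.Quotient.mk_surjective] at h1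
  exact h1

variable {k} {S : Type u} [CommRing S] [IsLocalRing S] [IsNoetherianRing S] [Algebra k S]

theorem maximalIdeal_le (J : Ideal S) (u v : S) (q : S →ₐ[k] Br k) (hqu : q u = 0) (hu : u ∈ maximalIdeal S)
    (hv : v ∈ maximalIdeal S) (hJ : J ≤ maximalIdeal S)
    (hdec : ∀ s : S, ∃ (c : k) (a b : S), s - algebraMap k S c - a * u - b * v ∈ J) :
    maximalIdeal S ≤ J ⊔ Ideal.span {u, v} := by
  intro s hs
  obtain ⟨c, a, b, h⟩ := hdec s
  have hc : c = 0 := by
    by_contra hc
    have hmem : algebraMap k S c ∈ maximalIdeal S := by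
      have e : algebraMap k S c = s - (s - algebraMap k S c - a * u - b * v) - a * u - b * v := by ring
      rw [e]
      exact sub_mem (sub_mem (sub_mem hs (hJ h)) (Ideal.mul_mem_left _ _ hu)) (Ideal.mul_mem_left _ _ hv)
    exact hmem ((isUnit_iff_ne_zero.2 hc).map _)
  rw [hc, map_zero, sub_zero] at h
  have e : s = (s - a * u - b * v) + (a * u + b * v) := by ring
  rw [e]
  refine add_mem (Ideal.mem_sup_left h) (Ideal.mem_sup_right (add_mem ?_ ?_))
  · exact Ideal.mul_mem_left _ _ (Ideal.subset_span (by simp))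
  · exact Ideal.mul_mem_left _ _ (Ideal.subset_span (by simp))

/-- The kernel of a branch map. -/
theorem ker_branch_le (J : Ideal S) (u v : S) (q : S →ₐ[k] Br k) (hqJ : ∀ j ∈ J, q j = 0) (hqu : q u = 0)
    {d : k} (hd : d ≠ 0) (hqv : q v = algebraMap k (Br k) d * par k) (hv : v ∈ maximalIdeal S)
    (hdec : ∀ s : S, ∃ (c : k) (a b : S), s - algebraMap k S c - a * u - b * v ∈ J)
    {s : S} (hs : q s = 0) : s ∈ J ⊔ Ideal.span {u} := by
  refine mem_of_forall_mem_sup_pow _ fun n => ?_
  induction n generalizing s with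
  | zero => simp
  | succ n ih =>
    obtain ⟨c, a, b, h⟩ := hdec s
    have e := hqJ _ h
    rw [map_sub, map_sub, map_sub, map_mul, map_mul, hs, hqu, hqv, AlgHom.commutes, mul_zero, sub_zero] at e
    have hc : c = 0 := by
      have e' := congrArg MvPowerSeries.constantCoeff e
      rw [MvPowerSeries.algebraMap_apply] at e'
      simpa using e'
    rw [hc, map_zero] at e h
    rw [zero_sub, neg_zero, zero_sub, neg_eq_zero] at e
    have hb : q b = 0 := by
      rcases mul_eq_zero.1 e with e1 | e1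
      · exact e1
      · exfalso
        rcases mul_eq_zero.1 e1 with e2 | e2
        · exact hd ((algebraMap k (Br k)).injective (e2.trans (map_zero _).symm))
        · exact par_ne_zero k e2
    have e3 : s = (s - 0 - a * u - b * v) + a * u + b * v := by ring
    rw [e3]
    refine add_mem (add_mem (Ideal.mem_sup_left (Ideal.mem_sup_left h))
      (Ideal.mem_sup_left (Ideal.mem_sup_right (Ideal.mul_mem_left _ _ (Ideal.subset_span rfl))))) ?_
    obtain ⟨p, hp, m, hm, hpm⟩ := Submodule.mem_sup.1 (ih hb)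
    rw [← hpm, add_mul]
    refine add_mem (Ideal.mem_sup_left (Ideal.mul_mem_right _ _ hp)) (Ideal.mem_sup_right ?_)
    rw [pow_succ]
    exact Ideal.mul_mem_mul hm hv

/-- An involution preserving a branch has an eigenvector generating it. -/
theorem exists_eigen (h2 : (2 : k) ≠ 0) (J : Ideal S) (hJm : J ≤ maximalIdeal S) (σ : S ≃ₐ[k] S)
    (hσ : ∀ s, σ (σ s) = s) (hσJ : ∀ j ∈ J, σ j ∈ J) (u v : S) (hu : u ∈ maximalIdeal S)
    (hv : v ∈ maximalIdeal S) (huv : u * v ∈ J) (q q' : S →ₐ[k] Br k) (hqJ : ∀ j ∈ J, q j = 0)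
    (hq'J : ∀ j ∈ J, q' j = 0) (hqu : q u = 0) (hq'v : q' v = 0) {d d' : k} (hd : d ≠ 0) (hd' : d' ≠ 0)
    (hqv : q v = algebraMap k (Br k) d * par k) (hq'u : q' u = algebraMap k (Br k) d' * par k)
    (hdec : ∀ s : S, ∃ (c : k) (a b : S), s - algebraMap k S c - a * u - b * v ∈ J)
    (hbr : ∀ P ∈ J.minimalPrimes, ∀ s ∈ P, σ s ∈ P) :
    ∃ (c : k) (x : S), c ^ 2 = 1 ∧ σ x = algebraMap k S c * x ∧ x ∈ J ⊔ Ideal.span {u} ∧
      x - u ∈ J ⊔ maximalIdeal S ^ 2 ∧ q x = 0 ∧ q' x ≠ 0 := by
  haveI : IsDomain (Br k) := NoZeroDivisors.to_isDomain _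
  haveI hP : (RingHom.ker q).IsPrime := RingHom.ker_isPrime q
  obtain ⟨Q, hQ, hQP⟩ := Ideal.exists_minimalPrimes_le (J := RingHom.ker q) (fun j hj => hqJ j hj)
  have huQ : u ∈ Q := by
    rcases hQ.1.1.mem_or_mem (hQ.1.2 huv) with h | h
    · exact h
    · exfalso
      have h' : q v = 0 := hQP h
      rw [hqv] at h'
      rcases mul_eq_zero.1 h' with e2 | e2
      · exact hd ((algebraMap k (Br k)).injective (e2.trans (map_zero _).symm))
      · exact par_ne_zero k e2
  have hqσu : q (σ u) = 0 := hQP (hbr Q hQ u huQ)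
  have hker := ker_branch_le J u v q hqJ hqu hd hqv hv hdec hqσu
  obtain ⟨p, hp, w, hw, hpw⟩ := Submodule.mem_sup.1 hker
  obtain ⟨α, rfl⟩ := Ideal.mem_span_singleton'.1 hw
  obtain ⟨c, a, b, hc⟩ := hdec α
  let M2 := J ⊔ maximalIdeal S ^ 2
  have hmm : ∀ {a b : S}, a ∈ maximalIdeal S → b ∈ maximalIdeal S → a * b ∈ M2 := fun ha hb =>
    Ideal.mem_sup_right (pow_two (maximalIdeal S) ▸ Ideal.mul_mem_mul ha hb)
  have hσm : ∀ {s : S}, s ∈ maximalIdeal S → σ s ∈ maximalIdeal S := by
    intro s hs h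
    exact hs (by simpa [hσ s] using h.map σ)
  have hσM2 : ∀ {s : S}, s ∈ M2 → σ s ∈ M2 := by
    intro s hs
    obtain ⟨j, hj, m, hm, rfl⟩ := Submodule.mem_sup.1 hs
    rw [map_add]
    refine add_mem (Ideal.mem_sup_left (hσJ j hj)) ?_
    rw [pow_two] at hm
    refine Submodule.mul_induction_on hm (fun a ha b hb => ?_) fun a b ha hb => ?_
    · rw [map_mul]; exact hmm (hσm ha) (hσm hb)
    · rw [map_add]; exact add_mem ha hb
  have h1 : σ u - algebraMap k S c * u ∈ M2 := by
    have e : σ u - algebraMap k S c * u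
        = p + (α - algebraMap k S c - a * u - b * v) * u + (a * u) * u + (b * v) * u := by
      rw [← hpw]; ring
    rw [e]
    refine add_mem (add_mem (add_mem (Ideal.mem_sup_left hp) (Ideal.mem_sup_left (Ideal.mul_mem_right _ _ hc))) ?_) ?_
    · exact hmm (Ideal.mul_mem_left _ _ hu) hu
    · exact hmm (Ideal.mul_mem_left _ _ hv) hu
  have hT : ∀ {s : S}, s ∈ M2 → q' s ∈ Ideal.span {par k * par k} := by
    have hqm : ∀ {s : S}, s ∈ maximalIdeal S → q' s ∈ Ideal.span {par k} := by
      intro s hs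
      obtain ⟨j, hj, w, hw, rfl⟩ := Submodule.mem_sup.1 (maximalIdeal_le J u v q hqu hu hv hJm hdec hs)
      obtain ⟨a', b', rfl⟩ := Ideal.mem_span_pair.1 hw
      rw [map_add, hq'J j hj, zero_add, map_add, map_mul, map_mul, hq'u, hq'v, mul_zero, add_zero, ← mul_assoc]
      exact Ideal.mul_mem_left _ _ (Ideal.subset_span rfl)
    intro s hs
    obtain ⟨j, hj, m, hm, rfl⟩ := Submodule.mem_sup.1 hs
    rw [map_add, hq'J j hj, zero_add]
    rw [pow_two] at hm
    refine Submodule.mul_induction_on hm (fun a ha b hb => ?_) fun a b ha hb => ?_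
    · rw [map_mul, ← Ideal.span_singleton_mul_span_singleton]
      exact Ideal.mul_mem_mul (hqm ha) (hqm hb)
    · rw [map_add]; exact add_mem ha hb
  have hu2 : ∀ e : k, q' (algebraMap k S e * u) ∈ Ideal.span {par k * par k} → e = 0 := by
    intro e h
    obtain ⟨r, hr⟩ := Ideal.mem_span_singleton'.1 h
    rw [map_mul, AlgHom.commutes, hq'u, ← mul_assoc, ← mul_assoc] at hr
    have := congrArg MvPowerSeries.constantCoeff (mul_right_cancel₀ (par_ne_zero k) hr)
    simp [MvPowerSeries.algebraMap_apply, hd'] at this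
    exact this
  have hc2 : c ^ 2 = 1 := by
    refine sub_eq_zero.1 (hu2 _ (hT ?_))
    have e : algebraMap k S (c ^ 2 - 1) * u
        = - (σ (σ u - algebraMap k S c * u) + algebraMap k S c * (σ u - algebraMap k S c * u)) := by
      simp only [map_sub, map_mul, map_pow, map_one, AlgEquiv.commutes, hσ]; ring
    rw [e]
    exact neg_mem (add_mem (hσM2 h1) (Ideal.mul_mem_left _ _ h1))
  have hcc : algebraMap k S c * algebraMap k S c = 1 := by rw [← map_mul, ← pow_two, hc2, map_one]
  have hh : algebraMap k S 2⁻¹ * 2 = 1 := by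
    rw [← map_ofNat (algebraMap k S) 2, ← map_mul, inv_mul_cancel₀ h2, map_one]
  refine ⟨c, algebraMap k S 2⁻¹ * (u + algebraMap k S c * σ u), hc2, ?_, ?_, ?_, ?_, ?_⟩
  · rw [map_mul, map_add, map_mul, AlgEquiv.commutes, AlgEquiv.commutes, hσ]
    linear_combination (-algebraMap k S 2⁻¹ * σ u) * hcc
  · refine Ideal.mul_mem_left _ _ (add_mem (Ideal.mem_sup_right (Ideal.subset_span rfl)) (Ideal.mul_mem_left _ _ hker))
  · have e : algebraMap k S 2⁻¹ * (u + algebraMap k S c * σ u) - u
        = algebraMap k S 2⁻¹ * (algebraMap k S c * (σ u - algebraMap k S c * u)) := by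
      linear_combination (algebraMap k S 2⁻¹ * u) * hcc + u * hh
    rw [e]
    exact Ideal.mul_mem_left _ _ (Ideal.mul_mem_left _ _ h1)
  · rw [map_mul, map_add, map_mul, hqu, hqσu, mul_zero, add_zero, mul_zero]
  · intro h0
    refine one_ne_zero (hu2 1 ?_)
    have e : algebraMap k S 1 * u = algebraMap k S 2⁻¹ * (u + algebraMap k S c * σ u)
        - algebraMap k S 2⁻¹ * (algebraMap k S c * (σ u - algebraMap k S c * u)) := by
      rw [map_one]
      linear_combination (-algebraMap k S 2⁻¹ * u) * hcc - u * hh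
    rw [e, map_sub, h0, zero_sub]
    exact neg_mem (hT (Ideal.mul_mem_left _ _ (Ideal.mul_mem_left _ _ h1)))

end Groth.Agent.ArSing29
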