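import Groth.Agent.Lib.ArSing29.NodeFibre
import Groth.Agent.Lib.ArSing29.NodeDeform
import Groth.Agent.Lib.SmoothCpl5.Basic
import Mathlib

/-! # Deformations of a node with an involution preserving the branches -/

set_option autoImplicit false
set_option linter.style.haveILetI false
set_option maxHeartbeats 400000
universe u

open IsLocalRing

namespace Groth.Agent.ArSing29

variable {k : Type u} [Field k]

/-- A series killed by a substitution `(0, w)` with `w ≠ 0` has its coefficients of `X 1 ^ n` non-units. -/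
theorem coeff_single_mem {R T : Type u} [CommRing R] [IsLocalRing R] [CommRing T] [IsDomain T]
    (ψ : MvPowerSeries (Fin 2) R →+* T) (i j : Fin 2) (hij : i ≠ j) (h0 : ψ (MvPowerSeries.X i) = 0)
    (h1 : ψ (MvPowerSeries.X j) ≠ 0) (hC : ∀ r ∈ maximalIdeal R, ψ (MvPowerSeries.C r) = 0) :
    ∀ (n : ℕ) (F : MvPowerSeries (Fin 2) R), ψ F = 0 →
      MvPowerSeries.coeff (Finsupp.single j n) F ∈ maximalIdeal R := by
  intro n
  induction n with
  | zero =>
    intro F hF
    rw [Finsupp.single_zero]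
    show MvPowerSeries.coeff 0 F ∈ nonunits R
    intro hu
    rw [MvPowerSeries.coeff_zero_eq_constantCoeff_apply, ← MvPowerSeries.isUnit_iff_constantCoeff] at hu
    exact (hu.map ψ).ne_zero hF
  | succ n ih =>
    intro F hF
    let H : MvPowerSeries (Fin 2) R := fun d => MvPowerSeries.coeff (d + Finsupp.single i 1) F
    let G : MvPowerSeries (Fin 2) R := fun d => if d i = 0 then MvPowerSeries.coeff (d + Finsupp.single j 1) F else 0
    have hH : ∀ d, MvPowerSeries.coeff d H = MvPowerSeries.coeff (d + Finsupp.single i 1) F := fun _ => rfl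
    have hG : ∀ d, MvPowerSeries.coeff d G
        = if d i = 0 then MvPowerSeries.coeff (d + Finsupp.single j 1) F else 0 := fun _ => rfl
    have hF0 : MvPowerSeries.coeff 0 F ∈ maximalIdeal R := by
      show MvPowerSeries.coeff 0 F ∈ nonunits R
      intro hu
      rw [MvPowerSeries.coeff_zero_eq_constantCoeff_apply, ← MvPowerSeries.isUnit_iff_constantCoeff] at hu
      exact (hu.map ψ).ne_zero hF
    have e : F = MvPowerSeries.C (MvPowerSeries.coeff 0 F) + MvPowerSeries.X i * H + MvPowerSeries.X j * G := by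
      classical
      ext d
      rw [map_add, map_add, MvPowerSeries.coeff_C, MvPowerSeries.X_def, MvPowerSeries.X_def,
        MvPowerSeries.coeff_monomial_mul, MvPowerSeries.coeff_monomial_mul, one_mul, one_mul, hH, hG]
      by_cases hi : Finsupp.single i 1 ≤ d
      · have hdi : 1 ≤ d i := by simpa using hi i
        have hd0 : d ≠ 0 := by rintro rfl; simp at hdi
        rw [if_neg hd0, if_pos hi, tsub_add_cancel_of_le hi, zero_add]
        have : (d - Finsupp.single j 1 : Fin 2 →₀ ℕ) i ≠ 0 := by simp [Finsupp.single_eq_of_ne hij]; omega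
        rw [if_neg this]
        split <;> simp
      · have hdi : d i = 0 := by
          by_contra h
          refine hi fun l => ?_
          rcases eq_or_ne l i with rfl | hl
          · simp; omega
          · simp [Finsupp.single_eq_of_ne hl]
        rw [if_neg hi, add_zero]
        by_cases hj : Finsupp.single j 1 ≤ d
        · have hdj : 1 ≤ d j := by simpa using hj j
          have hd0 : d ≠ 0 := by rintro rfl; simp at hdj
          have : (d - Finsupp.single j 1 : Fin 2 →₀ ℕ) i = 0 := by simp [hdi]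
          rw [if_neg hd0, if_pos hj, if_pos this, tsub_add_cancel_of_le hj, zero_add]
        · have hd0 : d = 0 := by
            ext l
            have hdj : d j = 0 := by
              by_contra h
              refine hj fun l => ?_
              rcases eq_or_ne l j with rfl | hl
              · simp; omega
              · simp [Finsupp.single_eq_of_ne hl]
            have : l = i ∨ l = j := by omega
            rcases this with rfl | rfl <;> simp [hdi, hdj]
          rw [if_pos hd0, if_neg hj, add_zero, hd0]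
    have hG0 : ψ G = 0 := by
      rw [e, map_add, map_add, map_mul, map_mul, hC _ hF0, h0, zero_mul, zero_add, zero_add] at hF
      exact (mul_eq_zero.1 hF).resolve_left h1
    have := ih G hG0
    rw [hG, if_pos (Finsupp.single_eq_of_ne hij), ← Finsupp.single_add] at this
    exact this

/-- The two branch maps of the node. -/
theorem exists_branches (h2 : (2 : k) ≠ 0) :
    ∃ (U W : MvPowerSeries (Fin 2) k ⧸
        Ideal.span {(MvPowerSeries.X 1 ^ 2 - MvPowerSeries.X 0 ^ 2 : MvPowerSeries (Fin 2) k)})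
      (p p' : (MvPowerSeries (Fin 2) k ⧸
        Ideal.span {(MvPowerSeries.X 1 ^ 2 - MvPowerSeries.X 0 ^ 2 : MvPowerSeries (Fin 2) k)}) →ₐ[k] Br k)
      (d d' : k), d ≠ 0 ∧ d' ≠ 0 ∧ U * W = 0 ∧ p U = 0 ∧ p W = algebraMap k (Br k) d * par k ∧
        p' U = algebraMap k (Br k) d' * par k ∧ p' W = 0 ∧
        ∀ s, ∃ (c : k) (a b : MvPowerSeries (Fin 2) k ⧸
          Ideal.span {(MvPowerSeries.X 1 ^ 2 - MvPowerSeries.X 0 ^ 2 : MvPowerSeries (Fin 2) k)}),
          s = algebraMap k _ c + a * U + b * W := by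
  set I := Ideal.span {(MvPowerSeries.X 1 ^ 2 - MvPowerSeries.X 0 ^ 2 : MvPowerSeries (Fin 2) k)}
  haveI : IsAdicComplete (H2Alg.PSHom.V 1 k) (Br k) := { }
  obtain ⟨ψ, hψ⟩ := H2Alg.PSHom.exists_algHom (A := k) (T := Br k) (H2Alg.PSHom.V 1 k) ![par k, par k]
    (fun i => by fin_cases i <;> exact H2Alg.PSHom.X_mem 0)
  obtain ⟨ψ', hψ'⟩ := H2Alg.PSHom.exists_algHom (A := k) (T := Br k) (H2Alg.PSHom.V 1 k) ![par k, -par k]
    (fun i => by fin_cases i <;> first | exact H2Alg.PSHom.X_mem 0 | exact neg_mem (H2Alg.PSHom.X_mem 0))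
  have hI : ∀ x ∈ I, ψ x = 0 := by
    intro x hx
    obtain ⟨a, rfl⟩ := Ideal.mem_span_singleton'.1 hx
    rw [map_mul, map_sub, map_pow, map_pow, hψ, hψ]; simp
  have hI' : ∀ x ∈ I, ψ' x = 0 := by
    intro x hx
    obtain ⟨a, rfl⟩ := Ideal.mem_span_singleton'.1 hx
    rw [map_mul, map_sub, map_pow, map_pow, hψ', hψ']; simp
  refine ⟨Ideal.Quotient.mk I (MvPowerSeries.X 1 - MvPowerSeries.X 0),
    Ideal.Quotient.mk I (MvPowerSeries.X 1 + MvPowerSeries.X 0),
    Ideal.Quotient.liftₐ I ψ hI, Ideal.Quotient.liftₐ I ψ' hI', 2, -2, h2, neg_ne_zero.2 h2, ?_, ?_, ?_, ?_, ?_, ?_⟩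
  · rw [← map_mul, Ideal.Quotient.eq_zero_iff_mem]
    exact Ideal.mem_span_singleton'.2 ⟨1, by ring⟩
  · show ψ _ = 0
    rw [map_sub, hψ, hψ]; simp
  · show ψ _ = _
    rw [map_add, hψ, hψ, map_ofNat]; simp; ring
  · show ψ' _ = _
    rw [map_sub, hψ', hψ', map_neg, map_ofNat]; simp; ring
  · show ψ' _ = 0
    rw [map_add, hψ', hψ']; simp
  · intro s
    obtain ⟨f, rfl⟩ := Ideal.Quotient.mk_surjective s
    have hmem : f - MvPowerSeries.C (MvPowerSeries.constantCoeff f) ∈ maximalIdeal (MvPowerSeries (Fin 2) k) := by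
      rw [mem_maximalIdeal, mem_nonunits_iff, MvPowerSeries.isUnit_iff_constantCoeff, map_sub,
        MvPowerSeries.constantCoeff_C, sub_self]
      exact not_isUnit_zero
    rw [H2Alg.PSHom.maximalIdeal_eq, H2Alg.PSHom.V, Ideal.mem_span_range_iff_exists_fun] at hmem
    obtain ⟨c, hc⟩ := hmem
    rw [Fin.sum_univ_two] at hc
    let h := algebraMap k (MvPowerSeries (Fin 2) k) 2⁻¹
    have hh : h * 2 = 1 := by
      simp only [h]
      rw [← map_ofNat (algebraMap k (MvPowerSeries (Fin 2) k)) 2, ← map_mul, inv_mul_cancel₀ h2, map_one]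
    refine ⟨MvPowerSeries.constantCoeff f, Ideal.Quotient.mk I (h * (c 1 - c 0)),
      Ideal.Quotient.mk I (h * (c 1 + c 0)), ?_⟩
    rw [show algebraMap k (MvPowerSeries (Fin 2) k ⧸ I) (MvPowerSeries.constantCoeff f)
      = Ideal.Quotient.mk I (MvPowerSeries.C (MvPowerSeries.constantCoeff f)) from rfl,
      ← map_mul, ← map_mul, ← map_add, ← map_add]
    congr 1
    linear_combination (-1 : MvPowerSeries (Fin 2) k) * hc - (c 1 * MvPowerSeries.X 1 + c 0 * MvPowerSeries.X 0) * hh

theorem surjective_param {R S : Type u} [CommRing R] [IsLocalRing R] [IsNoetherianRing R]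
    [IsAdicComplete (maximalIdeal R) R] [CommRing S] [IsLocalRing S] [IsNoetherianRing S]
    [Algebra k R] [Algebra R S] [Algebra k S] [IsScalarTower k R S]
    (hJm : (maximalIdeal R).map (algebraMap R S) ≤ maximalIdeal S) (x y : S)
    (hsp : Ideal.span {x, y} ≤ maximalIdeal S)
    (hdecS : ∀ s : S, ∃ (c : k) (a b : S),
      s - algebraMap k S c - a * x - b * y ∈ (maximalIdeal R).map (algebraMap R S))
    (φ : MvPowerSeries (Fin 2) R →ₐ[R] S) (hφ0 : φ (MvPowerSeries.X 0) = x) (hφ1 : φ (MvPowerSeries.X 1) = y) :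
    Function.Surjective φ := by
  set J := (maximalIdeal R).map (algebraMap R S) with hJdef
  haveI : IsHausdorff (Ideal.span {x, y}) S :=
    IsHausdorff.of_le_jacobson _ _ (hsp.trans (IsLocalRing.jacobson_eq_maximalIdeal ⊥ bot_ne_top).ge)
  refine H2Alg.PSHom.surjective φ (Ideal.span {x, y}) ?_ ?_
  · rw [H2Alg.PSHom.V, Ideal.map_span, ← Set.range_comp]
    congr 1
    ext z
    simp only [Set.mem_range, Function.comp_apply, Fin.exists_fin_two, hφ0, hφ1, Set.mem_insert_iff,
      Set.mem_singleton_iff]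
    tauto
  · let Q := S ⧸ Ideal.span {x, y}
    haveI : Nontrivial Q := Ideal.Quotient.nontrivial_iff.2 fun h => by
      rw [h] at hsp; exact (maximalIdeal.isMaximal S).ne_top (eq_top_iff.2 hsp)
    haveI : IsLocalRing Q := IsLocalRing.of_surjective' (Ideal.Quotient.mk _) Ideal.Quotient.mk_surjective
    let g : R →+* Q := (Ideal.Quotient.mk _).comp (algebraMap R S)
    have hgJ : (maximalIdeal R).map g = J.map (Ideal.Quotient.mk _) := (Ideal.map_map _ _).symm
    haveI : IsHausdorff ((maximalIdeal R).map g) Q := by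
      refine IsHausdorff.of_le_jacobson _ _ ?_
      rw [hgJ, IsLocalRing.jacobson_eq_maximalIdeal ⊥ bot_ne_top,
        ← map_maximalIdeal_of_surjective (Ideal.Quotient.mk (Ideal.span {x, y})) Ideal.Quotient.mk_surjective]
      exact Ideal.map_mono hJm
    have hg : Function.Surjective g := by
      refine surjective_of_mk_map_comp_surjective (I := maximalIdeal R) (f := g) ?_
      intro z
      obtain ⟨z, rfl⟩ := Ideal.Quotient.mk_surjective z
      obtain ⟨s, rfl⟩ := Ideal.Quotient.mk_surjective z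
      obtain ⟨c, a, b, h⟩ := hdecS s
      refine ⟨algebraMap k R c, ?_⟩
      show Ideal.Quotient.mk _ (g (algebraMap k R c)) = _
      rw [Ideal.Quotient.mk_eq_mk_iff_sub_mem, hgJ]
      show Ideal.Quotient.mk _ (algebraMap R S (algebraMap k R c)) - _ ∈ _
      rw [← map_sub, ← IsScalarTower.algebraMap_apply,
        show algebraMap k S c - s = -(s - algebraMap k S c - a * x - b * y) - (a * x + b * y) by ring, map_sub,
        Ideal.Quotient.eq_zero_iff_mem.2 (Ideal.mem_span_pair.2 ⟨a, b, rfl⟩), sub_zero]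
      exact Ideal.mem_map_of_mem _ (neg_mem h)
    intro s
    obtain ⟨r, hr⟩ := hg (Ideal.Quotient.mk _ s)
    exact ⟨r, Ideal.Quotient.eq.1 hr.symm⟩


theorem ker_param {R S : Type u} [CommRing R] [IsLocalRing R] [IsNoetherianRing R]
    [CommRing S] [Algebra R S] [Algebra k S] [Module.Flat R S]
    (φ : MvPowerSeries (Fin 2) R →ₐ[R] S) (hsurj : Function.Surjective φ) (x y : S)
    (hφ0 : φ (MvPowerSeries.X 0) = x) (hφ1 : φ (MvPowerSeries.X 1) = y) (t : R) (htmax : t ∈ maximalIdeal R)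
    (hxy : x * y = algebraMap R S t) (q q' : S →ₐ[k] Br k)
    (hqJ : ∀ j ∈ (maximalIdeal R).map (algebraMap R S), q j = 0)
    (hq'J : ∀ j ∈ (maximalIdeal R).map (algebraMap R S), q' j = 0)
    (hqx : q x = 0) (hqy : q y ≠ 0) (hq'y : q' y = 0) (hq'x : q' x ≠ 0) :
    RingHom.ker φ = Ideal.span {(MvPowerSeries.X 0 * MvPowerSeries.X 1 - MvPowerSeries.C t : MvPowerSeries (Fin 2) R)} := by
  haveI : IsDomain (Br k) := NoZeroDivisors.to_isDomain _
  set J := (maximalIdeal R).map (algebraMap R S) with hJdef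
  let h : MvPowerSeries (Fin 2) R := MvPowerSeries.X 0 * MvPowerSeries.X 1 - MvPowerSeries.C t
  let JP := (maximalIdeal R).map (MvPowerSeries.C : R →+* MvPowerSeries (Fin 2) R)
  have hφC : ∀ r, φ (MvPowerSeries.C r) = algebraMap R S r := fun r => φ.commutes r
  have hφh : φ h = 0 := by rw [map_sub, map_mul, hφ0, hφ1, hφC, hxy, sub_self]
  have hKJ : ∀ G, φ G ∈ J → G ∈ Ideal.span {h} ⊔ JP := by
    intro G hG
    have key : ∀ (qq : S →ₐ[k] Br k), (∀ j ∈ J, qq j = 0) → ∀ (i j : Fin 2), i ≠ j → qq (φ (MvPowerSeries.X i)) = 0 →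
        qq (φ (MvPowerSeries.X j)) ≠ 0 → ∀ n, MvPowerSeries.coeff (Finsupp.single j n) G ∈ maximalIdeal R := by
      intro qq hqq i j hij h0 h1 n
      exact coeff_single_mem (qq.toRingHom.comp φ.toRingHom) i j hij h0 h1
        (fun r hr => by
          show qq (φ (MvPowerSeries.C r)) = 0
          rw [hφC]; exact hqq _ (Ideal.mem_map_of_mem _ hr)) n G (hqq _ hG)
    have k1 := key q hqJ 0 1 (by decide) (by rw [hφ0]; exact hqx) (by rw [hφ1]; exact hqy)
    have k0 := key q' hq'J 1 0 (by decide) (by rw [hφ1]; exact hq'y) (by rw [hφ0]; exact hq'x)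
    let e11 : Fin 2 →₀ ℕ := Finsupp.single 0 1 + Finsupp.single 1 1
    let H : MvPowerSeries (Fin 2) R := fun d => MvPowerSeries.coeff (d + e11) G
    have hX : (MvPowerSeries.X 0 * MvPowerSeries.X 1 : MvPowerSeries (Fin 2) R) = MvPowerSeries.monomial e11 1 := by
      rw [MvPowerSeries.X_def, MvPowerSeries.X_def, MvPowerSeries.monomial_mul_monomial, one_mul]
    have hrest : G - MvPowerSeries.X 0 * MvPowerSeries.X 1 * H ∈ JP := by
      classical
      refine SmoothCpl5.mem_map_C _ (IsNoetherian.noetherian _) _ fun d => ?_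
      rw [map_sub, hX, MvPowerSeries.coeff_monomial_mul, one_mul,
        show MvPowerSeries.coeff (d - e11) H = MvPowerSeries.coeff (d - e11 + e11) G from rfl]
      by_cases hd : e11 ≤ d
      · rw [if_pos hd, tsub_add_cancel_of_le hd, sub_self]; exact zero_mem _
      · rw [if_neg hd, sub_zero]
        have h01 : d 0 = 0 ∨ d 1 = 0 := by
          by_contra hh
          push_neg at hh
          refine hd fun l => ?_
          fin_cases l <;> simp [e11] <;> omega
        rcases h01 with h' | h'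
        · have : d = Finsupp.single 1 (d 1) := by ext l; fin_cases l <;> simp [h']
          rw [this]; exact k1 _
        · have : d = Finsupp.single 0 (d 0) := by ext l; fin_cases l <;> simp [h']
          rw [this]; exact k0 _
    rw [show G = h * H + (G - MvPowerSeries.X 0 * MvPowerSeries.X 1 * H + MvPowerSeries.C t * H) by
      simp only [h]; ring]
    exact add_mem (Ideal.mem_sup_left (Ideal.mul_mem_right _ _ (Ideal.subset_span rfl)))
      (Ideal.mem_sup_right (add_mem hrest (Ideal.mul_mem_right _ _ (Ideal.mem_map_of_mem _ htmax))))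
  have hker : RingHom.ker φ = Ideal.span {h} := by
    refine le_antisymm ?_ (Ideal.span_le.2 (by rintro z rfl; exact hφh))
    refine Submodule.le_of_le_smul_of_le_jacobson_bot (I := JP) (IsNoetherian.noetherian _) ?_ ?_
    · rw [IsLocalRing.jacobson_eq_maximalIdeal ⊥ bot_ne_top, Ideal.map_le_iff_le_comap]
      intro r hr
      show MvPowerSeries.C r ∈ nonunits (MvPowerSeries (Fin 2) R)
      rw [mem_nonunits_iff, MvPowerSeries.isUnit_iff_constantCoeff, MvPowerSeries.constantCoeff_C]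
      exact hr
    intro F hF
    obtain ⟨g, hg, w, hw, rfl⟩ := Submodule.mem_sup.1 (hKJ F (by rw [show φ F = 0 from hF]; exact zero_mem _))
    refine Submodule.add_mem_sup hg ?_
    have hw0 : φ w = 0 := by
      have h1 : φ (g + w) = 0 := hF
      obtain ⟨a, rfl⟩ := Ideal.mem_span_singleton'.1 hg
      rwa [map_add, map_mul, hφh, mul_zero, zero_add] at h1
    obtain ⟨n, r, hr⟩ := Submodule.fg_iff_exists_fin_generating_family.1
      (IsNoetherian.noetherian (maximalIdeal R : Submodule R R))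
    have hrm : ∀ i, r i ∈ maximalIdeal R := fun i => hr ▸ Submodule.subset_span ⟨i, rfl⟩
    have hw' : w ∈ Ideal.span (Set.range fun i => (MvPowerSeries.C (r i) : MvPowerSeries (Fin 2) R)) := by
      refine (show JP ≤ _ from ?_) hw
      rw [Ideal.map_le_iff_le_comap]
      show (maximalIdeal R : Submodule R R) ≤ _
      rw [← hr]
      exact Ideal.span_le.2 (by rintro _ ⟨i, rfl⟩; exact Ideal.subset_span ⟨i, rfl⟩)
    obtain ⟨cc, hcc⟩ := Ideal.mem_span_range_iff_exists_fun.1 hw'
    have hrel : ∑ i, r i • φ (cc i) = 0 := by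
      rw [← hw0, ← hcc, map_sum]
      refine Finset.sum_congr rfl fun i _ => ?_
      rw [map_mul, hφC, Algebra.smul_def, mul_comm]
    obtain ⟨l, a, s, hs, ha⟩ := Module.Flat.isTrivialRelation_of_sum_smul_eq_zero (R := R) (M := S) hrel
    choose s' hs' using fun j => hsurj (s j)
    have e1 : w = ∑ i, MvPowerSeries.C (r i) * (cc i - ∑ j, MvPowerSeries.C (a i j) * s' j) := by
      have e2 : ∑ i, MvPowerSeries.C (r i) * ∑ j, MvPowerSeries.C (a i j) * s' j = 0 := by
        simp only [Finset.mul_sum, ← mul_assoc, ← map_mul]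
        rw [Finset.sum_comm]
        refine Finset.sum_eq_zero fun j _ => ?_
        rw [← Finset.sum_mul, ← map_sum, ha j, map_zero, zero_mul]
      simp only [mul_sub, Finset.sum_sub_distrib, e2, sub_zero, ← hcc]
      exact Finset.sum_congr rfl fun i _ => mul_comm _ _
    rw [e1]
    refine Ideal.sum_mem _ fun i _ => Ideal.mul_mem_mul (Ideal.mem_map_of_mem _ (hrm i)) ?_
    show φ _ = 0
    rw [map_sub, map_sum, sub_eq_zero, show φ (cc i) = _ from hs i]
    refine Finset.sum_congr rfl fun j _ => ?_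
    rw [map_mul, hφC, hs', Algebra.smul_def]
  exact hker

/-- Deformations of a node with an involution preserving the two branches are standard. -/
theorem node_deformation_of_involution (k R S : Type u) [Field k]
    (h2 : (2 : k) ≠ 0)
    [CommRing R] [IsLocalRing R] [IsNoetherianRing R] [IsAdicComplete (maximalIdeal R) R]
    [CommRing S] [IsLocalRing S] [IsNoetherianRing S] [IsAdicComplete (maximalIdeal S) S]
    [Algebra k R] [Algebra R S] [Algebra k S] [IsScalarTower k R S]
    [IsLocalHom (algebraMap R S)] [Module.Flat R S]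
    (e : (S ⧸ Ideal.map (algebraMap R S) (maximalIdeal R)) ≃ₐ[k]
      (MvPowerSeries (Fin 2) k ⧸
        Ideal.span {(MvPowerSeries.X 1 ^ 2 - MvPowerSeries.X 0 ^ 2 : MvPowerSeries (Fin 2) k)}))
    (σ : S ≃ₐ[R] S) (hσ : ∀ s, σ (σ s) = s)
    (hbr : ∀ P ∈ (Ideal.map (algebraMap R S) (maximalIdeal R)).minimalPrimes,
      Ideal.map (σ : S →+* S) P = P) :
    ∃ (t : R) (ξ₁ ξ₂ : k), ξ₁ ^ 2 = 1 ∧ ξ₂ ^ 2 = 1 ∧ (ξ₁ = -ξ₂ → t = 0) ∧
      ∃ f : S ≃ₐ[R] (MvPowerSeries (Fin 2) R ⧸
          Ideal.span {(MvPowerSeries.X 0 * MvPowerSeries.X 1 - MvPowerSeries.C t : MvPowerSeries (Fin 2) R)}),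
        f (σ (f.symm (Ideal.Quotient.mk _ (MvPowerSeries.X 0)))) =
          algebraMap k R ξ₂ • Ideal.Quotient.mk _ (MvPowerSeries.X 0) ∧
        f (σ (f.symm (Ideal.Quotient.mk _ (MvPowerSeries.X 1)))) =
          algebraMap k R ξ₁ • Ideal.Quotient.mk _ (MvPowerSeries.X 1) := by
  set J := (maximalIdeal R).map (algebraMap R S) with hJdef
  have hJm : J ≤ maximalIdeal S := Ideal.map_le_iff_le_comap.2 fun r hr => by
    show algebraMap R S r ∈ nonunits S
    exact fun h => hr (isUnit_of_map_unit (algebraMap R S) r h)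
  haveI : IsDomain (Br k) := NoZeroDivisors.to_isDomain _
  obtain ⟨U, W, p, p', d, d', hd, hd', hUW, hpU, hpW, hp'U, hp'W, hN⟩ := exists_branches (k := k) h2
  let π : S →ₐ[k] S ⧸ J := Ideal.Quotient.mkₐ k J
  have hπs : Function.Surjective π := Ideal.Quotient.mkₐ_surjective k J
  obtain ⟨u, hu'⟩ := hπs (e.symm U)
  obtain ⟨v, hv'⟩ := hπs (e.symm W)
  let q : S →ₐ[k] Br k := (p.comp e.toAlgHom).comp π
  let q' : S →ₐ[k] Br k := (p'.comp e.toAlgHom).comp π
  have hq : ∀ s, q s = p (e (π s)) := fun _ => rfl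
  have hq' : ∀ s, q' s = p' (e (π s)) := fun _ => rfl
  have hπJ : ∀ j ∈ J, π j = 0 := fun j hj => Ideal.Quotient.eq_zero_iff_mem.2 hj
  have hqJ : ∀ j ∈ J, q j = 0 := fun j hj => by rw [hq, hπJ j hj, map_zero, map_zero]
  have hq'J : ∀ j ∈ J, q' j = 0 := fun j hj => by rw [hq', hπJ j hj, map_zero, map_zero]
  have hqu : q u = 0 := by rw [hq, hu', AlgEquiv.apply_symm_apply, hpU]
  have hqv : q v = algebraMap k (Br k) d * par k := by rw [hq, hv', AlgEquiv.apply_symm_apply, hpW]
  have hq'u : q' u = algebraMap k (Br k) d' * par k := by rw [hq', hu', AlgEquiv.apply_symm_apply, hp'U]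
  have hq'v : q' v = 0 := by rw [hq', hv', AlgEquiv.apply_symm_apply, hp'W]
  have hpar : ¬ IsUnit (par k) := by simp [MvPowerSeries.isUnit_iff_constantCoeff]
  have hu : u ∈ maximalIdeal S := by
    show u ∈ nonunits S
    intro h
    have := h.map q'
    rw [hq'u] at this
    exact hpar (isUnit_of_mul_isUnit_right this)
  have hv : v ∈ maximalIdeal S := by
    show v ∈ nonunits S
    intro h
    have := h.map q
    rw [hqv] at this
    exact hpar (isUnit_of_mul_isUnit_right this)
  have huv : u * v ∈ J := Ideal.Quotient.eq_zero_iff_mem.1 (show π (u * v) = 0 by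
    rw [map_mul, hu', hv', ← map_mul, hUW, map_zero])
  have hdec : ∀ s : S, ∃ (c : k) (a b : S), s - algebraMap k S c - a * u - b * v ∈ J := by
    intro s
    obtain ⟨c, a, b, h⟩ := hN (e (π s))
    obtain ⟨a', ha'⟩ := hπs (e.symm a)
    obtain ⟨b', hb'⟩ := hπs (e.symm b)
    refine ⟨c, a', b', Ideal.Quotient.eq_zero_iff_mem.1 (show π _ = 0 from ?_)⟩
    rw [map_sub, map_sub, map_sub, map_mul, map_mul, AlgHom.commutes, ha', hb', hu', hv']
    have := congrArg e.symm h
    rw [AlgEquiv.symm_apply_apply, map_add, map_add, map_mul, map_mul, AlgEquiv.commutes] at this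
    rw [this]; ring
  have hσJ : ∀ j ∈ J, σ j ∈ J := by
    intro j hj
    have hc : (σ : S →+* S).comp (algebraMap R S) = algebraMap R S := RingHom.ext σ.commutes
    have h := Ideal.mem_map_of_mem (σ : S →+* S) hj
    rw [hJdef, Ideal.map_map, hc] at h
    exact h
  have hbr' : ∀ P ∈ J.minimalPrimes, ∀ s ∈ P, σ s ∈ P := by
    intro P hP s hs
    have := Ideal.mem_map_of_mem (σ : S →+* S) hs
    rw [hbr P hP] at this
    exact this
  obtain ⟨c₂, x₀, hc₂, hσx₀, hx₀u, hx₀, hqx₀, hq'x₀⟩ := exists_eigen h2 J hJm (σ.restrictScalars k) hσ hσJ u v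
    hu hv huv q q' hqJ hq'J hqu hq'v hd hd' hqv hq'u hdec hbr'
  obtain ⟨c₁, y₀, hc₁, hσy₀, hy₀v, hy₀, hq'y₀, hqy₀⟩ := exists_eigen h2 J hJm (σ.restrictScalars k) hσ hσJ v u
    hv hu (by rw [mul_comm]; exact huv) q' q hq'J hqJ hq'v hqu hd' hd hq'u hqv
    (fun s => by
      obtain ⟨c, a, b, h⟩ := hdec s
      exact ⟨c, b, a, by convert h using 1; ring⟩) hbr'
  have hprod : x₀ * y₀ ∈ J := by
    obtain ⟨j, hj, w, hw, rfl⟩ := Submodule.mem_sup.1 hx₀u
    obtain ⟨j', hj', w', hw', rfl⟩ := Submodule.mem_sup.1 hy₀v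
    obtain ⟨α, rfl⟩ := Ideal.mem_span_singleton'.1 hw
    obtain ⟨β, rfl⟩ := Ideal.mem_span_singleton'.1 hw'
    have e1 : (j + α * u) * (j' + β * v) = j * (j' + β * v) + α * u * j' + α * β * (u * v) := by ring
    rw [e1]
    exact add_mem (add_mem (Ideal.mul_mem_right _ _ hj) (Ideal.mul_mem_left _ _ hj')) (Ideal.mul_mem_left _ _ huv)
  -- the maximal ideal
  have hgen : ∀ x y : S, x - u ∈ J ⊔ maximalIdeal S ^ 2 → y - v ∈ J ⊔ maximalIdeal S ^ 2 →
      maximalIdeal S ≤ J ⊔ Ideal.span {x, y} := by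
    intro x y hx hy
    refine Submodule.le_of_le_smul_of_le_jacobson_bot (IsNoetherian.noetherian _)
      (IsLocalRing.jacobson_eq_maximalIdeal ⊥ bot_ne_top).ge ?_
    rw [smul_eq_mul, ← pow_two]
    refine (maximalIdeal_le J u v q hqu hu hv hJm hdec).trans (sup_le (le_sup_left.trans le_sup_left) ?_)
    rw [Ideal.span_le]
    rintro z (rfl | rfl)
    · obtain ⟨j, hj, w, hw, hjw⟩ := Submodule.mem_sup.1 hx
      rw [show z = x - j - w by linear_combination hjw]
      exact sub_mem (sub_mem (Ideal.mem_sup_left (Ideal.mem_sup_right (Ideal.subset_span (by simp))))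
        (Ideal.mem_sup_left (Ideal.mem_sup_left hj))) (Ideal.mem_sup_right hw)
    · obtain ⟨j, hj, w, hw, hjw⟩ := Submodule.mem_sup.1 hy
      rw [show z = y - j - w by linear_combination hjw]
      exact sub_mem (sub_mem (Ideal.mem_sup_left (Ideal.mem_sup_right (Ideal.subset_span (by simp))))
        (Ideal.mem_sup_left (Ideal.mem_sup_left hj))) (Ideal.mem_sup_right hw)
  have hdecS : ∀ x y : S, maximalIdeal S ≤ J ⊔ Ideal.span {x, y} →
      ∀ s : S, ∃ (c : k) (a b : S), s - algebraMap k S c - a * x - b * y ∈ J := by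
    intro x y hxy s
    obtain ⟨c, a, b, h⟩ := hdec s
    obtain ⟨j, hj, w, hw, hjw⟩ := Submodule.mem_sup.1 (hxy (add_mem (Ideal.mul_mem_left _ a hu) (Ideal.mul_mem_left _ b hv)))
    obtain ⟨a', b', rfl⟩ := Ideal.mem_span_pair.1 hw
    refine ⟨c, a', b', ?_⟩
    rw [show s - algebraMap k S c - a' * x - b' * y = (s - algebraMap k S c - a * u - b * v) + j by
      linear_combination (-1 : S) * hjw]
    exact add_mem h hj
  have hres : ∀ r : R, ∃ c : k, r - algebraMap k R c ∈ maximalIdeal R := by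
    intro r
    obtain ⟨c, a, b, h⟩ := hdec (algebraMap R S r)
    refine ⟨c, fun hunit => ?_⟩
    have h1 : algebraMap R S (r - algebraMap k R c) ∈ maximalIdeal S := by
      rw [map_sub, ← IsScalarTower.algebraMap_apply k R S,
        show algebraMap R S r - algebraMap k S c = (algebraMap R S r - algebraMap k S c - a * u - b * v) + a * u + b * v by ring]
      exact add_mem (add_mem (hJm h) (Ideal.mul_mem_left _ _ hu)) (Ideal.mul_mem_left _ _ hv)
    exact h1 (hunit.map _)
  -- successive approximation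
  let P : ℕ → S × S × R → Prop := fun n z =>
    σ z.1 = algebraMap k S c₂ * z.1 ∧ σ z.2.1 = algebraMap k S c₁ * z.2.1 ∧ (c₁ = -c₂ → z.2.2 = 0) ∧
      z.1 - x₀ ∈ J ∧ z.2.1 - y₀ ∈ J ∧ z.1 * z.2.1 - algebraMap R S z.2.2 ∈ J ^ (n + 1)
  have hJ2 : ∀ {x u : S} (z : S), z - x ∈ J → x - u ∈ J ⊔ maximalIdeal S ^ 2 → z - u ∈ J ⊔ maximalIdeal S ^ 2 := by
    intro x u z h h'
    rw [← sub_add_sub_cancel z x u]
    exact add_mem (Ideal.mem_sup_left h) h'
  have step : ∀ n z, P n z → ∃ z', P (n + 1) z' ∧ z'.1 - z.1 ∈ J ^ (n + 1) ∧ z'.2.1 - z.2.1 ∈ J ^ (n + 1) ∧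
      z'.2.2 - z.2.2 ∈ maximalIdeal R ^ (n + 1) := by
    rintro n ⟨x, y, t⟩ ⟨h1, h3, h4, h5, h6, h7⟩
    obtain ⟨x', y', t', g1, g2, g3, g4, g5, g6, g7⟩ := exists_step hres hdecS h2 σ hσ c₁ c₂ hc₁ hc₂ (n + 1) (by omega)
      x y t (hgen x y (hJ2 x h5 hx₀) (hJ2 y h6 hy₀)) h1 h3 h4 h7
    refine ⟨⟨x', y', t'⟩, ⟨g1, g2, g3, ?_, ?_, g7⟩, g4, g5, g6⟩
    · rw [show x' - x₀ = (x' - x) + (x - x₀) by ring]
      exact add_mem (Ideal.pow_le_self (by omega) g4) h5
    · rw [show y' - y₀ = (y' - y) + (y - y₀) by ring]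
      exact add_mem (Ideal.pow_le_self (by omega) g5) h6
  choose F hF1 hF2 hF3 hF4 using step
  let seq : (n : ℕ) → {z // P n z} := fun n => Nat.rec
    ⟨(x₀, y₀, 0), hσx₀, hσy₀, fun _ => rfl, by simp, by simp, by simpa using hprod⟩
    (fun n z => ⟨F n z.1 z.2, hF1 n z.1 z.2⟩) n
  let X := fun n => (seq n).1.1
  let Y := fun n => (seq n).1.2.1
  let T := fun n => (seq n).1.2.2
  have hJpow : ∀ n, J ^ n ≤ maximalIdeal S ^ n := fun n => Ideal.pow_right_mono hJm n
  have cauchy : ∀ {A : Type u} [CommRing A] (I : Ideal A) (f : ℕ → A),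
      (∀ n, f (n + 1) - f n ∈ I ^ (n + 1)) → ∀ {m n}, m ≤ n → f m ≡ f n [SMOD (I ^ m • ⊤ : Submodule A A)] := by
    intro A _ I f hf m n hmn
    rw [SModEq.sub_mem, smul_eq_mul, Ideal.mul_top, ← neg_sub, neg_mem_iff]
    induction n, hmn using Nat.le_induction with
    | base => simp
    | succ n hn ih =>
      rw [show f (n + 1) - f m = (f (n + 1) - f n) + (f n - f m) by ring]
      exact add_mem (Ideal.pow_le_pow_right (by omega) (hf n)) ih
  obtain ⟨x, hx⟩ := IsPrecomplete.prec (inferInstance : IsPrecomplete (maximalIdeal S) S)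
    (cauchy (maximalIdeal S) X fun n => hJpow _ (hF2 n _ (seq n).2))
  obtain ⟨y, hy⟩ := IsPrecomplete.prec (inferInstance : IsPrecomplete (maximalIdeal S) S)
    (cauchy (maximalIdeal S) Y fun n => hJpow _ (hF3 n _ (seq n).2))
  obtain ⟨t, ht⟩ := IsPrecomplete.prec (inferInstance : IsPrecomplete (maximalIdeal R) R)
    (cauchy (maximalIdeal R) T fun n => hF4 n _ (seq n).2)
  simp only [SModEq.sub_mem, smul_eq_mul, Ideal.mul_top] at hx hy ht
  have hσm : ∀ n, ∀ s ∈ maximalIdeal S ^ n, σ s ∈ maximalIdeal S ^ n := by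
    intro n s hs
    have h := Ideal.mem_map_of_mem (σ : S →+* S) hs
    rw [Ideal.map_pow] at h
    refine Ideal.pow_right_mono ?_ n h
    rw [Ideal.map_le_iff_le_comap]
    intro z hz hu'
    exact hz (by simpa [hσ z] using hu'.map σ)
  have heq : ∀ a b : S, (∀ n, a - b ∈ maximalIdeal S ^ n) → a = b := fun a b h => by
    refine sub_eq_zero.1 (IsHausdorff.haus (inferInstance : IsHausdorff (maximalIdeal S) S) _ fun n => ?_)
    rw [SModEq.zero, smul_eq_mul, Ideal.mul_top]; exact h n
  have hσx : σ x = algebraMap k S c₂ * x := heq _ _ fun n => by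
    have e1 : σ x - algebraMap k S c₂ * x = - σ (X n - x) + algebraMap k S c₂ * (X n - x) := by
      rw [map_sub, (seq n).2.1]; ring
    rw [e1]; exact add_mem (neg_mem (hσm n _ (hx n))) (Ideal.mul_mem_left _ _ (hx n))
  have hσy : σ y = algebraMap k S c₁ * y := heq _ _ fun n => by
    have e1 : σ y - algebraMap k S c₁ * y = - σ (Y n - y) + algebraMap k S c₁ * (Y n - y) := by
      rw [map_sub, (seq n).2.2.1]; ring
    rw [e1]; exact add_mem (neg_mem (hσm n _ (hy n))) (Ideal.mul_mem_left _ _ (hy n))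
  have htm : ∀ n, ∀ r ∈ maximalIdeal R ^ n, algebraMap R S r ∈ maximalIdeal S ^ n := fun n r hr => by
    refine hJpow n ?_
    rw [hJdef, ← Ideal.map_pow]; exact Ideal.mem_map_of_mem _ hr
  have hxy : x * y = algebraMap R S t := heq _ _ fun n => by
    have e1 : x * y - algebraMap R S t = (X n * Y n - algebraMap R S (T n)) - (X n - x) * Y n - x * (Y n - y)
        + algebraMap R S (T n - t) := by rw [map_sub]; ring
    rw [e1]
    refine add_mem (sub_mem (sub_mem ?_ (Ideal.mul_mem_right _ _ (hx n))) (Ideal.mul_mem_left _ _ (hy n))) (htm n _ (ht n))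
    exact Ideal.pow_le_pow_right (Nat.le_succ n) (hJpow _ (seq n).2.2.2.2.2.2)
  have ht0 : c₁ = -c₂ → t = 0 := fun h => by
    refine IsHausdorff.haus (inferInstance : IsHausdorff (maximalIdeal R) R) _ fun n => ?_
    rw [SModEq.zero, smul_eq_mul, Ideal.mul_top]
    have := ht n
    rw [show T n = 0 from (seq n).2.2.2.1 h, zero_sub, neg_mem_iff] at this
    exact this
  have hxJ : x - x₀ ∈ J := mem_of_forall_mem_sup_pow J fun n => by
    rw [show x - x₀ = (X n - x₀) - (X n - x) by ring]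
    exact sub_mem (Ideal.mem_sup_left (seq n).2.2.2.2.1) (Ideal.mem_sup_right (hx n))
  have hyJ : y - y₀ ∈ J := mem_of_forall_mem_sup_pow J fun n => by
    rw [show y - y₀ = (Y n - y₀) - (Y n - y) by ring]
    exact sub_mem (Ideal.mem_sup_left (seq n).2.2.2.2.2.1) (Ideal.mem_sup_right (hy n))
  have hm : maximalIdeal S ≤ J ⊔ Ideal.span {x, y} := hgen x y (hJ2 x hxJ hx₀) (hJ2 y hyJ hy₀)
  -- the parametrization
  have hxm : x ∈ maximalIdeal S := by
    rw [show x = (x - u) + u by ring]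
    refine add_mem ?_ hu
    exact (sup_le hJm (Ideal.pow_le_self two_ne_zero)) (hJ2 x hxJ hx₀)
  have hym : y ∈ maximalIdeal S := by
    rw [show y = (y - v) + v by ring]
    refine add_mem ?_ hv
    exact (sup_le hJm (Ideal.pow_le_self two_ne_zero)) (hJ2 y hyJ hy₀)
  obtain ⟨φ, hφ⟩ := H2Alg.PSHom.exists_algHom (A := R) (maximalIdeal S) ![x, y]
    (fun i => by fin_cases i <;> assumption)
  have hφ0 : φ (MvPowerSeries.X 0) = x := hφ 0
  have hφ1 : φ (MvPowerSeries.X 1) = y := hφ 1
  have hsp : Ideal.span {x, y} ≤ maximalIdeal S := by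
    rw [Ideal.span_le]; rintro z (rfl | rfl) <;> assumption
  have hsurj : Function.Surjective φ := by
    exact surjective_param hJm x y hsp (hdecS x y hm) φ hφ0 hφ1
  -- the kernel
  let h : MvPowerSeries (Fin 2) R := MvPowerSeries.X 0 * MvPowerSeries.X 1 - MvPowerSeries.C t
  have htmax : t ∈ maximalIdeal R := by
    intro hunit
    have h' : algebraMap R S t ∈ maximalIdeal S := by rw [← hxy]; exact Ideal.mul_mem_right _ _ hxm
    exact h' (hunit.map _)
  have hqx : q x = 0 := by
    rw [show x = (x - x₀) + x₀ by ring, map_add, hqJ _ hxJ, hqx₀, zero_add]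
  have hq'y : q' y = 0 := by
    rw [show y = (y - y₀) + y₀ by ring, map_add, hq'J _ hyJ, hq'y₀, zero_add]
  have hqy : q y ≠ 0 := by
    rw [show y = (y - y₀) + y₀ by ring, map_add, hqJ _ hyJ, zero_add]; exact hqy₀
  have hq'x : q' x ≠ 0 := by
    rw [show x = (x - x₀) + x₀ by ring, map_add, hq'J _ hxJ, zero_add]; exact hq'x₀
  have hker : RingHom.ker φ = Ideal.span {h} :=
    ker_param φ hsurj x y hφ0 hφ1 t htmax hxy q q' hqJ hq'J hqx hqy hq'y hq'x
  let ψ₀ : (MvPowerSeries (Fin 2) R ⧸ Ideal.span {h}) →ₐ[R] S :=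
    Ideal.Quotient.liftₐ _ φ (fun z hz => by rw [← hker] at hz; exact hz)
  have hbij : Function.Bijective ψ₀ := by
    refine ⟨?_, fun s => ?_⟩
    · rw [injective_iff_map_eq_zero]
      intro z hz
      obtain ⟨z, rfl⟩ := Ideal.Quotient.mk_surjective z
      rw [Ideal.Quotient.eq_zero_iff_mem, ← hker]
      exact hz
    · obtain ⟨F, rfl⟩ := hsurj s
      exact ⟨Ideal.Quotient.mk _ F, rfl⟩
  let f := (AlgEquiv.ofBijective ψ₀ hbij).symm
  have hf : ∀ i, f.symm (Ideal.Quotient.mk _ (MvPowerSeries.X i)) = φ (MvPowerSeries.X i) := fun i => rfl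
  refine ⟨t, c₁, c₂, hc₁, hc₂, ht0, f, ?_, ?_⟩
  · rw [hf, hφ0, hσx, IsScalarTower.algebraMap_apply k R S, ← Algebra.smul_def, map_smul, ← hφ0, ← hf,
      AlgEquiv.apply_symm_apply]
  · rw [hf, hφ1, hσy, IsScalarTower.algebraMap_apply k R S, ← Algebra.smul_def, map_smul, ← hφ1, ← hf,
      AlgEquiv.apply_symm_apply]

end Groth.Agent.ArSing29
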