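import Groth.Agent.Lib.ArSing29.Auto
import Mathlib.RingTheory.AdicCompletion.Completeness
import Mathlib.RingTheory.Henselian
import Mathlib.FieldTheory.IsAlgClosed.Basic

/-!
# Involutions of `k[[x, y]]/(y^2 - x^(r+1))` for `2 ≤ r`
-/

set_option autoImplicit false
set_option maxHeartbeats 400000

universe u

namespace Groth.Agent.ArSing29

open ArSing

variable {k : Type u} [Field k] {r : ℕ}

theorem pow_form (hr : 2 ≤ r) (F G : PowerSeries k) (j : ℕ) :
    ∃ R I : PowerSeries k, PowerSeries.constantCoeff R = PowerSeries.constantCoeff F ^ (j + 1) ∧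
      (xMap k r (PowerSeries.X * F) + xMap k r G * y k r) ^ (j + 1) =
        xMap k r (PowerSeries.X ^ (j + 1) * R) + xMap k r (PowerSeries.X ^ j * I) * y k r := by
  induction j with
  | zero => exact ⟨F, G, by simp, by simp⟩
  | succ j ih =>
    obtain ⟨R, I, hR, e⟩ := ih
    obtain ⟨l, rfl⟩ : ∃ l, r = l + 2 := ⟨r - 2, by omega⟩
    refine ⟨F * R + G * I * PowerSeries.X ^ (l + 1), F * I + G * R, by simp [hR, pow_succ, mul_comm], ?_⟩
    rw [pow_succ, e, rep_mul]
    congr 3 <;> ring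

theorem eq_of_sq_eq (h2 : (2 : k) ≠ 0) (hr : 2 ≤ r) (z z' : ring k r) (hsq : z ^ 2 = z' ^ 2)
    (hdvd : PowerSeries.X ^ r ∣ p2 (z ^ 2)) (hly : ly z = ly z') (hne : ly z ≠ 0) : z = z' := by
  obtain ⟨l, rfl⟩ : ∃ l, r = l + 2 := ⟨r - 2, by omega⟩
  have hu : ∀ f : PowerSeries k, PowerSeries.constantCoeff f ≠ 0 → IsUnit f := fun f hf =>
    PowerSeries.isUnit_iff_constantCoeff.2 (isUnit_iff_ne_zero.2 hf)
  have h2' : IsUnit (2 : PowerSeries k) := hu _ (by rwa [map_ofNat])
  have hq : IsUnit (p2 z) := hu _ hne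
  have hq' : IsUnit (p2 z') := hu _ (by rw [show PowerSeries.constantCoeff (p2 z') = ly z' from rfl, ← hly]; exact hne)
  rw [pow_two, pow_two] at hsq
  rw [pow_two, (p_mul z z).2, show p1 z * p2 z + p2 z * p1 z = 2 * p2 z * p1 z by ring, (h2'.mul hq).dvd_mul_left] at hdvd
  obtain ⟨w, hw⟩ := hdvd
  have e1 := congrArg p1 hsq
  have e2 := congrArg p2 hsq
  rw [(p_mul z z).1, (p_mul z' z').1] at e1
  rw [(p_mul z z).2, (p_mul z' z').2] at e2
  have e3 : p1 z * p2 z = p1 z' * p2 z' := h2'.mul_left_cancel (by linear_combination e2)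
  have hfac : (p2 z' * p2 z' - p2 z * p2 z) * (PowerSeries.X ^ (l + 1) * w ^ 2 - p2 z' * p2 z') = 0 := by
    refine mul_left_cancel₀ (pow_ne_zero (l + 2 + 1) (PowerSeries.X_ne_zero (R := k))) ?_
    rw [mul_zero]
    have : p1 z * p1 z * (p2 z' * p2 z' - p2 z * p2 z) =
        PowerSeries.X ^ (l + 2 + 1) * (p2 z' * p2 z') * (p2 z' * p2 z' - p2 z * p2 z) := by
      linear_combination (p2 z' * p2 z') * e1 - (p1 z * p2 z + p1 z' * p2 z') * e3
    rw [hw] at this
    linear_combination this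
  have hne2 : PowerSeries.X ^ (l + 1) * w ^ 2 - p2 z' * p2 z' ≠ 0 := fun h => by
    simpa [show PowerSeries.constantCoeff (p2 z') = ly z' from rfl, ← hly, hne] using congrArg PowerSeries.constantCoeff h
  have hsum : IsUnit (p2 z' + p2 z) := hu _ (by
    rw [map_add, show PowerSeries.constantCoeff (p2 z') = ly z' from rfl, ← hly, show PowerSeries.constantCoeff (p2 z) = ly z from rfl, ← two_mul]
    exact mul_ne_zero h2 hne)
  have hqq : p2 z' = p2 z := sub_eq_zero.1 (hsum.mul_right_eq_zero.1 (by linear_combination (mul_eq_zero.1 hfac).resolve_right hne2))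
  rw [← p_spec z, ← p_spec z', hqq, hq.mul_right_cancel (e3.trans (by rw [hqq]))]

theorem exists_sq_root [IsAlgClosed k] (h2 : (2 : k) ≠ 0) (hr : 2 ≤ r) (R I : PowerSeries k)
    (hR : PowerSeries.constantCoeff R = 1) :
    ∃ z : ring k r, z ^ 2 = xMap k r (PowerSeries.X ^ (r + 1) * R) + xMap k r (PowerSeries.X ^ r * I) * y k r ∧
      c0 z = 0 ∧ lx z = 0 ∧ ly z = 1 := by
  obtain ⟨l, rfl⟩ : ∃ l, r = l + 2 := ⟨r - 2, by omega⟩
  let c : PowerSeries k := PowerSeries.C (4⁻¹ : k) * (PowerSeries.X ^ (l + 1) * I ^ 2)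
  have hmon : (Polynomial.X ^ 4 - Polynomial.C R * Polynomial.X ^ 2 + Polynomial.C c : Polynomial (PowerSeries k)).Monic := by
    monicity!
  obtain ⟨q, hq, hq1⟩ := HenselianRing.is_henselian (R := PowerSeries k) (I := Ideal.span {PowerSeries.X}) _ hmon 1
    (by
      rw [Ideal.mem_span_singleton, PowerSeries.X_dvd_iff]
      simp [c, hR])
    (by
      refine IsUnit.map _ ?_
      rw [PowerSeries.isUnit_iff_constantCoeff]
      simp [hR, map_ofNat]
      intro h
      exact h2 (by linear_combination h))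
  have hq0 : PowerSeries.constantCoeff q = 1 := by
    rw [Ideal.mem_span_singleton, PowerSeries.X_dvd_iff, map_sub, map_one, sub_eq_zero] at hq1
    exact hq1
  obtain ⟨v, hv⟩ : ∃ v, q * v = 1 := (PowerSeries.isUnit_iff_constantCoeff.2 (by rw [hq0]; exact isUnit_one)).exists_right_inv
  have hq' : q ^ 4 - R * q ^ 2 + c = 0 := by simpa [Polynomial.IsRoot] using hq
  let d : PowerSeries k := PowerSeries.C (2⁻¹ : k)
  have hd : 2 * d = 1 := by
    rw [← map_ofNat PowerSeries.C, ← map_mul, mul_inv_cancel₀ h2, map_one]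
  have hc : c = d * d * (PowerSeries.X ^ (l + 1) * I ^ 2) := by
    simp only [c, d, ← map_mul]
    rw [← mul_inv, show (2 : k) * 2 = 4 by norm_num]
  let p := PowerSeries.X ^ (l + 2) * (d * I * v)
  refine ⟨xMap k (l + 2) p + xMap k (l + 2) q * y k (l + 2), ?_, ?_, ?_, ?_⟩
  · rw [pow_two, rep_mul]
    congr 3
    · have e : p * p + q * q * PowerSeries.X ^ (l + 2 + 1) - PowerSeries.X ^ (l + 2 + 1) * R =
          PowerSeries.X ^ (l + 2 + 1) * (v * v) * (q ^ 4 - R * q ^ 2 + c) := by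
        rw [hc]
        simp only [p]
        linear_combination (PowerSeries.X ^ (l + 2 + 1) * (R - q * q) * (q * v + 1)) * hv
      rw [hq', mul_zero] at e
      exact sub_eq_zero.1 e
    · simp only [p]
      linear_combination (PowerSeries.X ^ (l + 2) * I * (2 * d)) * hv + (PowerSeries.X ^ (l + 2) * I) * hd
  · rw [c0, (p_rep (r := l + 2) p q).1]; simp [p]
  · rw [lx, (p_rep (r := l + 2) p q).1, PowerSeries.coeff_X_pow_mul', if_neg (by omega)]
  · simp [ly, (p_rep (r := l + 2) p q).2, hq0]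

theorem c0_sub_zero {a : ring k r} (h : c0 a = 0) : ∃ F, p1 a = PowerSeries.X * F ∧ PowerSeries.constantCoeff F = lx a := by
  obtain ⟨F, hF⟩ := PowerSeries.X_dvd_iff.2 h
  exact ⟨F, hF, by rw [lx, hF, PowerSeries.coeff_succ_X_mul, PowerSeries.coeff_zero_eq_constantCoeff_apply]⟩

/-- A non-trivial involution is conjugate to a diagonal one. -/
theorem exists_conj [IsAlgClosed k] (h2 : (2 : k) ≠ 0) (hr : 2 ≤ r)
    (σ : ring k r ≃ₐ[k] ring k r) (hσ : ∀ a, σ (σ a) = a) (hne : σ ≠ AlgEquiv.refl) :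
    ∃ (φ : ring k r ≃ₐ[k] ring k r) (α δ : k), α ^ 2 = 1 ∧ δ ^ 2 = 1 ∧ α ^ (r + 1) = 1 ∧ (α = 1 → δ = -1) ∧
      φ.symm (σ (φ (x k r))) = algebraMap k _ α * x k r ∧ φ.symm (σ (φ (y k r))) = algebraMap k _ δ * y k r := by
  have hr1 : 1 ≤ r := by omega
  set a := σ (x k r) with ha
  set b := σ (y k r) with hb
  set α := lx a with hα
  set δ := ly b with hδ
  have ha0 : c0 a = 0 := by rw [ha, c0_map, c0_x]
  have hb0 : c0 b = 0 := by rw [hb, c0_map, c0_y]
  have hab : b ^ 2 = a ^ (r + 1) := by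
    rw [ha, hb, ← map_pow σ, ← map_pow σ, pow_two (y k r), y_mul_y, map_pow (xMap k r), xMap_X]
  obtain ⟨F, hF, hF0⟩ := c0_sub_zero ha0
  obtain ⟨R, I, hR, hpow⟩ := pow_form hr F (p2 a) r
  rw [← hF, p_spec, ← hab, pow_two] at hpow
  have hb1 := (congrArg p1 hpow).trans (p_rep _ _).1
  have hb2 := (congrArg p2 hpow).trans (p_rep _ _).2
  rw [(p_mul b b).1] at hb1
  rw [(p_mul b b).2] at hb2
  obtain ⟨P, hP, hP0⟩ := c0_sub_zero hb0
  rw [hP] at hb1 hb2
  have hγ : lx b = 0 := by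
    obtain ⟨l, hl⟩ : ∃ l, r = l + 2 := ⟨r - 2, by omega⟩
    have h' : PowerSeries.X ^ 2 * (P * P + p2 b * p2 b * PowerSeries.X ^ (l + 1)) =
        PowerSeries.X ^ 2 * (PowerSeries.X ^ (l + 1) * R) := by
      have e : (PowerSeries.X : PowerSeries k) ^ (r + 1) = PowerSeries.X ^ 2 * PowerSeries.X ^ (l + 1) := by rw [hl, ← pow_add]; congr 1; omega
      linear_combination hb1 + (R - p2 b * p2 b) * e
    have := congrArg PowerSeries.constantCoeff (mul_left_cancel₀ (pow_ne_zero 2 PowerSeries.X_ne_zero) h')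
    simpa [hP0] using this
  have hlx := lin_map hr1 σ a ha0
  have hly := lin_map hr1 σ b hb0
  rw [ha, hσ, ← ha, ← hb] at hlx
  rw [hb, hσ, ← ha, ← hb] at hly
  rw [hγ] at hlx hly
  have e1 : α ^ 2 = 1 := by
    have := hlx.1
    rw [show lx (x k r) = 1 by simp [lx, p_x.1]] at this
    linear_combination -this
  have e2 : δ ^ 2 = 1 := by
    have := hly.2
    rw [show ly (y k r) = 1 by simp [ly, p_y.2]] at this
    linear_combination -this
  have e3 : α ^ (r + 1) = 1 := by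
    obtain ⟨l, hl⟩ : ∃ l, r = l + 2 := ⟨r - 2, by omega⟩
    have hu : IsUnit (2 * p2 b) := PowerSeries.isUnit_iff_constantCoeff.2 (isUnit_iff_ne_zero.2 (by
      rw [map_mul, map_ofNat]
      exact mul_ne_zero h2 fun h => by rw [show δ = 0 from h] at e2; norm_num at e2))
    obtain ⟨w, hw⟩ : PowerSeries.X ^ r ∣ PowerSeries.X * P :=
      hu.dvd_mul_left.1 ⟨I, by linear_combination hb2⟩
    rw [hw] at hb1
    have e : (PowerSeries.X : PowerSeries k) ^ (r + 1) = PowerSeries.X ^ (l + 3) := by rw [hl]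
    have e' : (PowerSeries.X : PowerSeries k) ^ r = PowerSeries.X ^ (l + 2) := by rw [hl]
    rw [e, e'] at hb1
    have h' : PowerSeries.X ^ (l + 3) * (PowerSeries.X ^ (l + 1) * (w * w) + p2 b * p2 b) =
        PowerSeries.X ^ (l + 3) * R := by linear_combination hb1
    have := congrArg PowerSeries.constantCoeff (mul_left_cancel₀ (pow_ne_zero _ PowerSeries.X_ne_zero) h')
    simp [hR, hF0, show PowerSeries.constantCoeff (p2 b) = δ from rfl] at this
    rw [hα, ← this, ← e2, pow_two]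
  let h : k := 2⁻¹
  let x' := algebraMap k (ring k r) h * (x k r + algebraMap k (ring k r) α * a)
  have hx'0 : c0 x' = 0 := by simp [x', c0_mul, c0_add, ha0]
  have hx'1 : lx x' = 1 := by
    simp only [x', lx_mul hr1, lx_add, lx_algebraMap, c0_algebraMap, c0_mul, ha0, c0_x, mul_zero, zero_mul, add_zero]
    rw [show lx (x k r) = 1 by simp [lx, p_x.1], ← hα, ← pow_two, e1, ← two_mul, mul_one, inv_mul_cancel₀ h2]
  have hσx' : σ x' = algebraMap k (ring k r) α * x' := by
    have hα2 : algebraMap k (ring k r) α * algebraMap k (ring k r) α = 1 := by rw [← map_mul, ← pow_two, e1, map_one]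
    simp only [x', map_mul, map_add, AlgEquiv.commutes, ← ha]
    rw [show σ a = x k r from hσ _]
    linear_combination (- algebraMap k (ring k r) h * a) * hα2
  obtain ⟨F', hF', hF'0⟩ := c0_sub_zero hx'0
  obtain ⟨R', I', hR', hpow'⟩ := pow_form hr F' (p2 x') r
  rw [← hF', p_spec] at hpow'
  obtain ⟨y0, hy0, hy0c, hy0x, hy0y⟩ := exists_sq_root h2 hr R' I' (by rw [hR', hF'0, hx'1, one_pow])
  rw [← hpow'] at hy0
  have hσy0 : σ y0 = algebraMap k (ring k r) δ * y0 := by
    have hsq : σ y0 ^ 2 = (algebraMap k (ring k r) δ * y0) ^ 2 := by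
      rw [← map_pow σ, hy0, map_pow σ, hσx', mul_pow (algebraMap k (ring k r) α) x', mul_pow (algebraMap k (ring k r) δ) y0, hy0, ← map_pow, ← map_pow, e3, e2]
    refine eq_of_sq_eq h2 hr _ _ hsq ?_ ?_ ?_
    · rw [← map_pow σ, hy0, map_pow σ, hσx', mul_pow (algebraMap k (ring k r) α) x', ← map_pow, e3, map_one, one_mul, hpow', (p_rep _ _).2]
      exact dvd_mul_right _ _
    · rw [(lin_map hr1 σ y0 hy0c).2, hy0x, hy0y, ly_mul, ly_algebraMap, c0_algebraMap, hy0y, hy0c]
      rw [← hb]; ring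
    · rw [(lin_map hr1 σ y0 hy0c).2, hy0x, hy0y, ← hb, zero_mul, one_mul, zero_add]
      exact fun h => by rw [show δ = 0 from h] at e2; norm_num at e2
  obtain ⟨φ, hφx, hφy⟩ := exists_auto x' y0 hx'0 hy0c (by rw [hy0y, hy0x, hx'1]; simp) hy0
  have hX : φ.symm (σ (φ (x k r))) = algebraMap k _ α * x k r := by
    rw [hφx, hσx', AlgEquiv.symm_apply_eq, map_mul, AlgEquiv.commutes, hφx]
  have hY : φ.symm (σ (φ (y k r))) = algebraMap k _ δ * y k r := by
    rw [hφy, hσy0, AlgEquiv.symm_apply_eq, map_mul, AlgEquiv.commutes, hφy]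
  refine ⟨φ, α, δ, e1, e2, e3, fun hα1 => ?_, hX, hY⟩
  rcases sq_eq_one_iff.1 e2 with hd | hd
  swap
  · exact hd
  exfalso
  refine hne (AlgEquiv.ext fun c => ?_)
  have key : ∀ v, φ.symm (σ (φ v)) = v := fun v => by
    obtain ⟨f, g, rfl⟩ := exists_rep k r v
    have := map_rep k r ((φ.trans σ).trans φ.symm).toAlgHom 1 (by
      show φ.symm (σ (φ (x k r))) = _
      rw [hX, hα1]) f g
    rw [PowerSeries.rescale_one, show ((φ.trans σ).trans φ.symm).toAlgHom (y k r) = y k r by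
      show φ.symm (σ (φ (y k r))) = _
      rw [hY, hd, map_one, one_mul]] at this
    exact this
  have := congrArg φ (key (φ.symm c))
  simpa using this

end Groth.Agent.ArSing29
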